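import Cfsg.Agent.TenLocal.Std
import Cfsg.Agent.J4DC.Base

/-!
# Uniqueness of J4: shared definitions

A section of the permutation action of the normaliser of the elementary group of order `2 ^ 11` is
*pure* if its fixed-point-free involutions are not conjugate to the central involution (of the two
classes of complements only one is pure).  The two generators of the presented group are the images
of the two generating permutations under a pure section.
-/

set_option autoImplicit false

open Cfsg Subgroup

namespace Cfsg.Agent.J4Uniq

open LargeExtra (oc)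
open J4Type (mSub)
open J4Type.V11 TenLocal

variable {G : Type*} [Group G] [Finite G] {z : G} {P : Subgroup G} {V : Type*} [AddCommGroup V]
  {π : ↥(oc z) →* Multiplicative V} {ρ : ↥(mSub z P) →* Equiv.Perm V} {q : V → ZMod 2} {B : List V}
  {S : Sys z P π ρ q B}

/-- The fixed-point-free involutions of the section are not conjugate to `z`. -/
def Pure (T : Sect S) : Prop :=
  ∀ σ : ↥M24, σ * σ = 1 → (∀ p : GolayPt, (σ : Equiv.Perm GolayPt) p ≠ p) →
    ¬ IsConj z ((T.kap σ : ↥T.F.nrm) : G)

/-- The presented M24 as permutations of the points. -/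
noncomputable def toM24 : J4M24.Q →* ↥M24 :=
  J4M24.toPerms.codRestrict M24 fun q => J4M24.range_toPerms ▸ ⟨q, rfl⟩

/-- The presented M24 inside the group. -/
noncomputable def qhom (T : Sect S) : J4M24.Q →* G :=
  T.F.nrm.subtype.comp (T.kap.comp toM24)

/-- The element of a word in the two generators. -/
noncomputable def wd (T : Sect S) (w : J4DC.Word) : G := qhom T (J4DC.qW w)

/-- The first generator. -/
noncomputable def xg (T : Sect S) : G := qhom T (PresentedGroup.of (0 : Fin 2))

/-- The second generator. -/
noncomputable def yg (T : Sect S) : G := qhom T (PresentedGroup.of (1 : Fin 2))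

/-- The second generator of the trio stabiliser, `y x y (x y⁻¹)² (x y)³`. -/
noncomputable def ug (T : Sect S) : G :=
  yg T * xg T * yg T * (xg T * (yg T)⁻¹) ^ 2 * (xg T * yg T) ^ 3

/-- The third generator: an involution centralising the trio stabiliser. -/
structure IsCentre (T : Sect S) (t : G) : Prop where
  ne_one : t ≠ 1
  sq : t * t = 1
  comm_x : Commute t (xg T)
  comm_u : Commute t (ug T)

/-- The first of the two long relators. -/
def RelA (T : Sect S) (t : G) : Prop :=
  (yg T * ((yg T * xg T * (yg T)⁻¹ * xg T * yg T * xg T * (yg T)⁻¹ * xg T)⁻¹ * t *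
    (yg T * xg T * (yg T)⁻¹ * xg T * yg T * xg T * (yg T)⁻¹ * xg T))) ^ 3 = 1

/-- The second of the two long relators. -/
def RelB (T : Sect S) (t : G) : Prop :=
  ((yg T * xg T * yg T * xg T * yg T * xg T * yg T) ^ 3 * t *
    (((xg T * yg T) ^ 3 * yg T * (xg T * yg T) ^ 6 * yg T)⁻¹ * t *
      ((xg T * yg T) ^ 3 * yg T * (xg T * yg T) ^ 6 * yg T))) ^ 2 = 1

end Cfsg.Agent.J4Uniq
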