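import Cfsg.Agent.J4Type.Order.Bridge
import Cfsg.Agent.Layer.FStar
import Cfsg.Prelude.Def_MonsterType

/-!
# From an extraspecial centraliser with `Aut M₂₂` on top to a group of Janko-four type

`Q` extraspecial of order `2 ^ 13`, `N / Q` of order three without complement, `C / N ≅ Aut M₂₂`:
the preimage `M` of the inner automorphisms has index two, centralises `N / Q` and is perfect modulo `Q`.
-/

set_option autoImplicit false

open Cfsg Subgroup
open scoped commutatorElement

namespace Cfsg.Agent.J4Uniq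

universe u

private theorem inn_index : (Inn ↥Spor.M22).index = 2 := by
  rw [Subgroup.index_eq_card]; exact S2062.result

private theorem conj_m22_inj : Function.Injective (MulAut.conj : ↥Spor.M22 →* MulAut ↥Spor.M22) := by
  have hsimple : IsSimpleGroup ↥Spor.M22 := Compute.isSimpleGroup_m22
  refine (injective_iff_map_eq_one _).2 fun a ha => ?_
  have hac : a ∈ center ↥Spor.M22 := Subgroup.mem_center_iff.2 fun b => by
    have h := congrArg (fun α : MulAut ↥Spor.M22 => α b) ha
    simp only [MulAut.conj_apply, MulAut.one_apply] at h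
    exact (mul_inv_eq_iff_eq_mul.1 h).symm
  rcases (inferInstance : (center ↥Spor.M22).Normal).eq_bot_or_eq_top with hb | ht
  · rwa [hb, mem_bot] at hac
  · exfalso
    let _ : CommGroup ↥Spor.M22 :=
      { mul_comm := fun a b => (Subgroup.mem_center_iff.1 (ht ▸ mem_top b) a) }
    have := IsSimpleGroup.prime_card (α := ↥Spor.M22)
    rw [Compute.card_m22] at this
    norm_num at this

private theorem exists_sq_ne_one : ∃ v : ↥Spor.M22, v * v ≠ 1 := by
  by_contra h
  push Not at h
  have hsimple : IsSimpleGroup ↥Spor.M22 := Compute.isSimpleGroup_m22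
  let _ : CommGroup ↥Spor.M22 :=
    { mul_comm := fun a b => by
        have hi : ∀ x : ↥Spor.M22, x⁻¹ = x := fun x => inv_eq_of_mul_eq_one_right (h x)
        rw [← hi (a * b), mul_inv_rev, hi, hi] }
  have := IsSimpleGroup.prime_card (α := ↥Spor.M22)
  rw [Compute.card_m22] at this
  norm_num at this

private theorem exists_comm_ne_one : ∃ v w : ↥Spor.M22, ⁅v, w⁆ ≠ 1 := by
  by_contra h
  push Not at h
  have hsimple : IsSimpleGroup ↥Spor.M22 := Compute.isSimpleGroup_m22
  let _ : CommGroup ↥Spor.M22 :=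
    { mul_comm := fun a b => commutatorElement_eq_one_iff_mul_comm.1 (h a b) }
  have := IsSimpleGroup.prime_card (α := ↥Spor.M22)
  rw [Compute.card_m22] at this
  norm_num at this

section

variable {C : Type u} [Group C] {N : Subgroup C} (ψ : C →* MulAut ↥Spor.M22)

/-- A normal subgroup containing `N` with a non-trivial inner image covers all inner automorphisms. -/
private theorem inn_le (hψk : ψ.ker = N) (hψ : Function.Surjective ψ) (K : Subgroup C) [hKn : K.Normal]
    (hNK : N ≤ K) {v : ↥Spor.M22} (hv : v ≠ 1) (hk : ∃ k ∈ K, ψ k = MulAut.conj v) :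
    (Inn ↥Spor.M22).comap ψ ≤ K := by
  have hsimple : IsSimpleGroup ↥Spor.M22 := Compute.isSimpleGroup_m22
  have : (K.map ψ).Normal := hKn.map ψ hψ
  set L := (K.map ψ).comap (MulAut.conj : ↥Spor.M22 →* MulAut ↥Spor.M22) with hL
  have hvL : v ∈ L := by
    obtain ⟨k, hk, e⟩ := hk
    exact mem_comap.2 ⟨k, hk, e⟩
  have hLt : L = ⊤ := by
    rcases (inferInstance : L.Normal).eq_bot_or_eq_top with hb | ht
    · rw [hb, mem_bot] at hvL
      exact absurd hvL hv
    · exact ht
  intro c hc
  obtain ⟨w, hw⟩ := mem_comap.1 hc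
  obtain ⟨k, hk', e⟩ := (mem_comap.1 (hLt ▸ mem_top w : w ∈ L))
  rw [hw] at e
  have h1 : k⁻¹ * c ∈ N := by rw [← hψk, MonoidHom.mem_ker, map_mul, map_inv, e, inv_mul_cancel]
  simpa using mul_mem hk' (hNK h1)

end

/-- The hypotheses of the extraspecial characterisation give those of Janko-four type. -/
theorem type_of_setting {G : Type u} [Group G] [Finite G] (τ : G)
    (Q N : Subgroup ↥(centralizer ({τ} : Set G))) [Q.Normal] [N.Normal]
    (hS : IsExtraspecialCentralizerSetting τ Q 6) (hQN : Q ≤ N)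
    (hN3 : Nat.card ↥N = 3 * Nat.card ↥Q)
    (hns : ∀ K : Subgroup ↥(centralizer ({τ} : Set G)), K ⊓ N = Q → K ⊔ N = ⊤ → False)
    (hAut : Nonempty (↥(centralizer ({τ} : Set G)) ⧸ N ≃* MulAut ↥Spor.M22)) :
    IsOfJankoFourTypeAt τ := by
  classical
  obtain ⟨hτ, hF, hQ, hcard, -⟩ := hS
  obtain ⟨e⟩ := hAut
  have h2c : centralizer (Q : Set ↥(centralizer ({τ} : Set G))) ≤ Q := by
    rw [← hF]
    exact Layer.centralizer_generalizedFitting_le
  let ψ : ↥(centralizer ({τ} : Set G)) →* MulAut ↥Spor.M22 := e.toMonoidHom.comp (QuotientGroup.mk' N)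
  have hψ : Function.Surjective ψ := e.surjective.comp (QuotientGroup.mk'_surjective N)
  have hψk : ψ.ker = N := by
    ext c
    rw [MonoidHom.mem_ker]
    show e (QuotientGroup.mk c) = 1 ↔ _
    rw [EmbeddingLike.map_eq_one_iff, QuotientGroup.eq_one_iff]
  have : (Inn ↥Spor.M22).Normal := Subgroup.normal_of_index_eq_two inn_index
  set M := (Inn ↥Spor.M22).comap ψ with hM
  have hMi : M.index = 2 := by rw [hM, index_comap_of_surjective _ hψ, inn_index]
  have hNM : N ≤ M := fun x hx => mem_comap.2 (by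
    rw [show ψ x = 1 from MonoidHom.mem_ker.1 (hψk ▸ hx)]
    exact one_mem _)
  have hout : ∀ c : ↥(centralizer ({τ} : Set G)), (∀ m ∈ M, c * m * c⁻¹ * m⁻¹ ∈ N) → c ∈ M := by
    intro c hc
    have h1 : ψ c = 1 := by
      refine MulEquiv.ext fun v => conj_m22_inj ?_
      obtain ⟨m, hm⟩ := hψ (MulAut.conj v)
      have h := hc m (mem_comap.2 (hm ▸ ⟨v, rfl⟩))
      rw [← hψk, MonoidHom.mem_ker, map_mul, map_mul, map_mul, map_inv, map_inv, hm, mul_inv_eq_one] at h
      rw [MulAut.one_apply, ← h]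
      ext x
      simp [MulAut.conj_apply]
    exact hNM (hψk ▸ MonoidHom.mem_ker.2 h1)
  -- `M` centralises `N / Q`
  let q := QuotientGroup.mk' Q
  set K := (centralizer ((N.map q : Subgroup _) : Set _)).comap q with hK
  have : (N.map q).Normal := Subgroup.Normal.map inferInstance q (QuotientGroup.mk'_surjective Q)
  have hNb : Nat.card ↥(N.map q) = 3 := by
    have h := Subgroup.card_mul_index (Q.subgroupOf N)
    rw [Nat.card_congr (subgroupOfEquivOfLe hQN).toEquiv, hN3, mul_comm 3,
      Nat.mul_right_inj (Nat.card_pos (α := ↥Q)).ne', index_eq_card] at h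
    rw [← h]
    exact Nat.card_congr ((MonoidHom.range_eq_map (q.comp N.subtype)).trans (by
      rw [← Subgroup.map_map, ← MonoidHom.range_eq_map, range_subtype])
      ▸ (QuotientGroup.quotientMulEquivOfEq (show Q.subgroupOf N = (q.comp N.subtype).ker by
        rw [← MonoidHom.comap_ker, QuotientGroup.ker_mk']; rfl)).trans
          (QuotientGroup.quotientKerEquivRange (q.comp N.subtype))).symm.toEquiv
  have hcomm : ∀ a ∈ N.map q, ∀ b ∈ N.map q, a * b = b * a := by
    have : Fact (Nat.Prime 3) := ⟨by norm_num⟩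
    have hc : IsCyclic ↥(N.map q) := isCyclic_of_prime_card hNb
    intro a ha b hb
    have := hc.isMulCommutative.is_comm.comm (⟨a, ha⟩ : ↥(N.map q)) ⟨b, hb⟩
    exact congrArg Subtype.val this
  have hNK : N ≤ K := fun x hx => mem_comap.2 (mem_centralizer_iff.2 fun a ha =>
    hcomm a ha _ ⟨x, hx, rfl⟩)
  have hsq : ∀ c, c * c ∈ K := by
    intro c
    refine mem_comap.2 (mem_centralizer_iff.2 fun a ha => ?_)
    -- `x ↦ c x c⁻¹` is an automorphism of a group of order three
    let f : ↥(N.map q) ≃* ↥(N.map q) := MulAut.conjNormal (q c)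
    have key : ∀ (f : ↥(N.map q) ≃* ↥(N.map q)) (x : ↥(N.map q)), f (f x) = x := by
      intro f x
      have : Fact (Nat.Prime 3) := ⟨by norm_num⟩
      by_cases hx : x = 1
      · rw [hx, map_one, map_one]
      obtain ⟨i, hi⟩ := mem_powers_of_prime_card hNb hx (g' := f x)
      obtain ⟨j, hj, hj'⟩ : ∃ j, j < 3 ∧ x ^ j = f x := ⟨i % 3, Nat.mod_lt _ (by norm_num), by
        rw [← hi]
        have h3 : orderOf x = 3 := orderOf_eq_prime
          (by rw [← hNb]; exact pow_card_eq_one') hx
        rw [← h3, pow_mod_orderOf]⟩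
      rw [← hj', map_pow, ← hj', ← pow_mul]
      interval_cases j
      · exact absurd (f.map_eq_one_iff.1 (by rw [← hj', pow_zero])) hx
      · rw [pow_one]
      · show x ^ (3 + 1) = x
        rw [pow_succ, ← hNb, pow_card_eq_one', one_mul]
    have h := congrArg Subtype.val (key f ⟨a, ha⟩)
    simp only [f, MulAut.conjNormal_apply] at h
    calc a * q (c * c) = (q c * (q c * a * (q c)⁻¹) * (q c)⁻¹) * q (c * c) := by rw [h]
      _ = q (c * c) * a := by rw [map_mul]; group
  have hKn : K.Normal := by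
    have : (centralizer (↑(N.map q) : Set (↥(centralizer ({τ} : Set G)) ⧸ Q))).Normal := inferInstance
    exact this.comap q
  have hMK : M ≤ K := by
    obtain ⟨v, hv⟩ := exists_sq_ne_one
    obtain ⟨m, hm⟩ := hψ (MulAut.conj v)
    exact inn_le ψ hψk hψ K hNK hv ⟨m * m, hsq m, by rw [map_mul, hm, map_mul]⟩
  have hcent : ⁅M, N⁆ ≤ Q := commutator_le.2 fun m hm n hn => by
    rw [← QuotientGroup.eq_one_iff]
    change q ⁅m, n⁆ = 1
    rw [map_commutatorElement, commutatorElement_eq_one_iff_mul_comm]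
    exact (mem_centralizer_iff.1 (mem_comap.1 (hMK hm)) _ ⟨n, hn, rfl⟩).symm
  -- `M / Q` is perfect
  have hperf : M ≤ ⁅M, M⁆ ⊔ Q := by
    have : M.Normal := Subgroup.normal_of_index_eq_two hMi
    set D := ⁅M, M⁆ ⊔ Q with hD
    have hDM : D ≤ M := sup_le (commutator_le_self M) (hQN.trans hNM)
    have hDN : M ≤ D ⊔ N := by
      obtain ⟨v, w, hvw⟩ := exists_comm_ne_one
      obtain ⟨a, ha⟩ := hψ (MulAut.conj v)
      obtain ⟨b, hb⟩ := hψ (MulAut.conj w)
      refine inn_le ψ hψk hψ (D ⊔ N) le_sup_right hvw ⟨⁅a, b⁆, mem_sup_left (mem_sup_left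
        (commutator_mem_commutator (mem_comap.2 (ha ▸ ⟨v, rfl⟩)) (mem_comap.2 (hb ▸ ⟨w, rfl⟩)))), ?_⟩
      rw [map_commutatorElement, map_commutatorElement, ha, hb]
    by_cases hND : N ≤ D
    · exact hDN.trans (sup_le le_rfl hND)
    exfalso
    -- otherwise `N / Q` has a complement
    have hDNQ : D ⊓ N = Q := by
      have hle : Q ≤ D ⊓ N := le_inf le_sup_right hQN
      refine (eq_of_le_of_card_ge hle ?_).symm
      obtain ⟨k, hk⟩ := card_dvd_of_le hle
      have hdvd : Nat.card ↥(D ⊓ N) ∣ Nat.card ↥N := card_dvd_of_le inf_le_right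
      rw [hN3, hk, mul_comm 3, Nat.mul_dvd_mul_iff_left Nat.card_pos] at hdvd
      rcases (Nat.dvd_prime (by norm_num)).1 hdvd with h | h
      · rw [hk, h, mul_one]
      · refine absurd ?_ hND
        have : D ⊓ N = N := eq_of_le_of_card_ge inf_le_right (by rw [hk, h, hN3, mul_comm])
        exact this ▸ inf_le_left
    have hn3 : ∀ m ∈ M, m ^ 3 ∈ D := by
      intro m hm
      obtain ⟨d, hd, n, hn, rfl⟩ := mem_sup_of_normal_left.1 (hDN hm)
      rw [← QuotientGroup.eq_one_iff, QuotientGroup.mk_pow, QuotientGroup.mk_mul,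
        (QuotientGroup.eq_one_iff d).2 hd, one_mul, ← QuotientGroup.mk_pow, QuotientGroup.eq_one_iff]
      refine mem_sup_right ?_
      rw [← QuotientGroup.eq_one_iff]
      change q (n ^ 3) = 1
      rw [map_pow, ← hNb]
      exact congrArg Subtype.val (pow_card_eq_one' (x := (⟨q n, ⟨n, hn, rfl⟩⟩ : ↥(N.map q))))
    obtain ⟨c, hc⟩ : ∃ c, c ∉ M := by
      by_contra h
      push Not at h
      rw [(eq_top_iff.2 fun x _ => h x : M = ⊤), index_top] at hMi
      exact absurd hMi (by norm_num)
    have hcc : c * c ∈ M := (mul_mem_iff_of_index_two hMi).2 Iff.rfl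
    set y := c * c * c with hy
    have hyM : y ∉ M := fun h => hc ((mul_mem_cancel_left hcc).1 h)
    have hyy : y * y ∈ D := by
      rw [show y * y = (c * c) ^ 3 by rw [hy, pow_succ, pow_two]; group]
      exact hn3 _ hcc
    have hyD : ∀ j : ℤ, (y * y) ^ j ∈ D := fun j => zpow_mem hyy j
    refine hns (D ⊔ zpowers y) (le_antisymm ?_ (le_inf (le_sup_of_le_left le_sup_right) hQN)) ?_
    · rintro x ⟨hx, hxN⟩
      obtain ⟨d, hd, w, ⟨i, hi⟩, rfl⟩ := mem_sup_of_normal_left.1 hx
      change y ^ i = w at hi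
      obtain ⟨j, hj | hj⟩ := Int.even_or_odd' i
      · rw [← hDNQ]
        refine ⟨?_, hxN⟩
        rw [← hi, hj, zpow_mul, show y ^ (2 : ℤ) = y * y by rw [zpow_two]]
        exact mul_mem hd (hyD j)
      · refine absurd ?_ hyM
        have h1 := (mul_mem_cancel_left (hDM hd)).1 (hNM hxN)
        rw [← hi, hj, zpow_add, zpow_mul, zpow_one, show y ^ (2 : ℤ) = y * y by rw [zpow_two]] at h1
        exact (mul_mem_cancel_left (hDM (hyD j))).1 h1
    · refine eq_top_iff.2 fun x _ => ?_
      have hle : M ≤ (D ⊔ zpowers y) ⊔ N := hDN.trans (sup_le_sup_right le_sup_left N)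
      by_cases hx : x ∈ M
      · exact hle hx
      · have : y⁻¹ * x ∈ M :=
          (mul_mem_iff_of_index_two hMi).2 (iff_of_false (fun h => hyM (inv_mem_iff.1 h)) hx)
        simpa using mul_mem
          (mem_sup_left (mem_sup_right (mem_zpowers y)) : y ∈ (D ⊔ zpowers y) ⊔ N) (hle this)
  have hMn : M.Normal := Subgroup.normal_of_index_eq_two hMi
  have hiso : Spor.IsoM22 (↥M ⧸ N.subgroupOf M) := by
    let φ : ↥Spor.M22 ≃* ↥(Inn ↥Spor.M22) := MonoidHom.ofInjective conj_m22_inj
    let f : ↥M →* ↥(Inn ↥Spor.M22) := (ψ.comp M.subtype).codRestrict _ fun m => m.2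
    have hf : Function.Surjective f := fun a => by
      obtain ⟨c, hc⟩ := hψ a
      exact ⟨⟨c, mem_comap.2 (hc ▸ a.2)⟩, Subtype.ext hc⟩
    have hk : N.subgroupOf M = f.ker := by
      rw [show f.ker = (ψ.comp M.subtype).ker from MonoidHom.ker_codRestrict _ _ _,
        ← MonoidHom.comap_ker, hψk]
      rfl
    exact ⟨((QuotientGroup.quotientMulEquivOfEq hk).trans
      (QuotientGroup.quotientKerEquivOfSurjective f hf)).trans φ.symm⟩
  exact (J4Type.Order.bridge τ hτ Q N M hQN hNM hMi hQ (by rw [hcard]) hN3 hcent hperf h2c hout hiso).1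

end Cfsg.Agent.J4Uniq
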