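import Cfsg.Agent.J4Type.Trio.ChecksGrp
import Cfsg.Agent.J4DC.Base

/-!
# Finite checks for the involution centralising a trio stabiliser
-/

set_option autoImplicit false
set_option Elab.async false
set_option maxRecDepth 100000
set_option maxHeartbeats 1000000

namespace Cfsg.Agent.J4Uniq

open J4Type J4Type.Rep J4Type.Orbits J4Type.Trio
open Compute (rep24)

/-- Two matrices act in the same way on the eleven unit vectors. -/
noncomputable def sameB (M N : List ℕ) : Bool :=
  (List.range 11).all fun i => Nat.beq (app M (2 ^ i)) (app N (2 ^ i))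

/-- The matrix of an element of the complement of the kernel. -/
noncomputable def hm (e : ℕ × ℕ) : List ℕ :=
  Orbits.comp (linT.getD e.1 ([], 0, 0)).1 (sixT.getD e.2 [])

/-- Generators of the stabiliser of one element of the kernel. -/
def stT : List (ℕ × ℕ) := [(0, 3), (10, 0), (11, 0), (12, 0)]

/-- Elements moving that element to a basis, with the image and the image of its twin. -/
def selT : List ((ℕ × ℕ) × ℕ × ℕ) :=
  [((0, 0), 3, 26), ((0, 1), 24, 97), ((1, 0), 43, 92), ((1, 1), 16, 108), ((3, 0), 34, 729),
    ((3, 1), 20, 178)]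

/-- The basis of the kernel as sums of the listed images. -/
def qcomb : List (List ℕ) := [[1, 2, 3, 4], [0, 1, 2, 3, 4], [3, 5], [1, 3], [3], [0, 1, 2, 3]]

/-- The images of the twin and three elements of the centre. -/
def xT : List ℕ := [26, 97, 92, 108, 729, 178, 64, 5, 27]

/-- The basis of the subgroup of index four as sums of those. -/
def vcomb : List (List ℕ) :=
  [[0, 8], [2, 6, 7, 8], [0, 7, 8], [1, 3, 7], [0, 1, 2, 3, 6, 8], [0, 1, 6, 8], [6], [3, 5, 6, 7, 8], [],
    [2, 3, 4, 5, 6, 8], []]

/-- A permutation moving the trio of the two generators to the standard one. -/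
def mvP : ℕ := 0xa85ca594ec349f122613a09036dec0

/-- Its inverse. -/
def mvI : ℕ := 0x106e7439896d4709d1458be4b21ac0

/-- The conjugated first generator. -/
noncomputable def cxP : ℕ := rep24.mul mvP (rep24.mul (J4M24.evalCode [(0, true)]) mvI)

/-- The word of the second generator of the trio stabiliser. -/
def uWord : List (Fin 2 × Bool) :=
  [(1, true), (0, true), (1, true), (0, true), (1, false), (0, true), (1, false), (0, true), (1, true),
    (0, true), (1, true), (0, true), (1, true)]

/-- The conjugated second generator. -/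
noncomputable def cuP : ℕ := rep24.mul mvP (rep24.mul (J4M24.evalCode uWord) mvI)

/-- Two of the generators as words in the conjugated pair. -/
def wordG : List (List Bool) :=
  [[false, true, false, true, true, false, true, true, false, true, true, true, false, true, true, true],
    [true, false, true, true, false, true, false, true, true, false, true, true, false, true, true, true,
      false, true]]

/-- The code of such a word. -/
noncomputable def wordCode (l : List Bool) : ℕ :=
  l.foldr (fun b r => rep24.mul (cond b cuP cxP) r) rep24.one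

theorem comm_ok : (eqM (Orbits.comp (gm 6) (gm 8)) (Orbits.comp (gm 8) (gm 6)) &&
    eqM (Orbits.comp (gm 7) (gm 8)) (Orbits.comp (gm 8) (gm 7)) &&
    eqM (Orbits.comp (gm 9) (gm 6)) (Orbits.comp (gm 6) (gm 9)) &&
    eqM (Orbits.comp (gm 9) (gm 8)) (Orbits.comp (Orbits.comp (gm 8) (gm 8)) (gm 9))) = true := by decide +kernel

theorem fix68_ok : ((List.range 2048).all fun v => Nat.beq v 0 || !Nat.beq (app (gm 6) v) v ||
    !Nat.beq (app (gm 8) v) v) = true := by decide +kernel

theorem fix8_z : (zT.all fun a => Nat.beq (app (gm 8) a) a) = true := by decide +kernel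

theorem kf_ok : ((List.range 6).all fun a => (List.range 64).all fun b => (Nat.beq a 0 && Nat.beq b 0) ||
    !sameB (Orbits.comp (Orbits.comp (sixT.getD a []) (qm b)) (gm 6))
      (Orbits.comp (gm 6) (Orbits.comp (sixT.getD a []) (qm b))) ||
    !sameB (Orbits.comp (Orbits.comp (sixT.getD a []) (qm b)) (gm 8))
      (Orbits.comp (gm 8) (Orbits.comp (sixT.getD a []) (qm b))) ||
    !sameB (Orbits.comp (Orbits.comp (sixT.getD a []) (qm b)) (Orbits.comp (sixT.getD a []) (qm b))) id11) =
    true := by decide +kernel

theorem st_ok : (stT.all fun e => Nat.blt e.1 168 && Nat.blt e.2 6 &&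
    eqM (Orbits.comp (hm e) (qm 3)) (Orbits.comp (qm 3) (hm e))) = true := by decide +kernel

theorem fixX_ok : ((List.range 2048).all fun v => !Nat.beq (cls v) 0 || Nat.beq v 0 || Nat.beq v 26 ||
    stT.any fun e => !Nat.beq (app (hm e) v) v) = true := by decide +kernel

theorem fixA_ok : ((List.range 64).all fun a => Nat.beq a 0 || Nat.beq a 3 ||
    stT.any fun e => !sameB (Orbits.comp (hm e) (qm a)) (Orbits.comp (qm a) (hm e))) = true := by decide +kernel

theorem sel_ok : (selT.all fun e => Nat.blt e.1.1 168 && Nat.blt e.1.2 6 && Nat.blt e.2.1 64 &&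
    eqM (Orbits.comp (hm e.1) (qm 3)) (Orbits.comp (qm e.2.1) (hm e.1)) &&
    Nat.beq (app (hm e.1) 26) e.2.2) = true := by decide +kernel

theorem qcomb_ok : ((List.range 6).all fun k => (qcomb.getD k []).all (fun i => Nat.blt i 6) &&
    Nat.beq ((qcomb.getD k []).foldr (fun i r => Nat.xor (selT.getD i ((0, 0), 0, 0)).2.1 r) 0) (2 ^ k)) =
    true := by decide +kernel

theorem vcomb_ok : ((List.range 11).all fun k => (vcomb.getD k []).all (fun i => Nat.blt i 9) &&
    Nat.beq ((vcomb.getD k []).foldr (fun i r => Nat.xor (xT.getD i 0) r) 0) (Nat.land (2 ^ k) 767)) =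
    true := by decide +kernel

theorem xT_ok : (((List.range 6).all fun i => Nat.beq (xT.getD i 0) (selT.getD i ((0, 0), 0, 0)).2.2) &&
    List.elem (xT.getD 6 0) zT && List.elem (xT.getD 7 0) zT && List.elem (xT.getD 8 0) zT &&
    Nat.beq (app (qm 3) 26) 26 && Nat.beq (cls 26) 0 &&
    !sameB (qm 3) id11 && !sameB (qm 1) id11 && !V11.tB 370 648 &&
    sameB (qm 1) (gm 0)) = true := by decide +kernel

theorem fpf_ok : (((List.range 24).all fun i => !Nat.beq (rep24.act (genP.getD 0 0) i) i) &&
    Nat.beq (rep24.mul (genP.getD 0 0) (genP.getD 0 0)) rep24.one) = true := by decide +kernel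

theorem move_ok : (Compute.inM24B mvP && Compute.inM24B mvI &&
    Nat.beq (rep24.mul mvP mvI) rep24.one && Compute.inM24B cxP && Compute.inM24B cuP &&
    okPair cxP (Orbits.comp (linT.getD 10 ([], 0, 0)).1 (Orbits.comp (sixT.getD 4 []) (qm 6))) &&
    okPair cuP (Orbits.comp (linT.getD 74 ([], 0, 0)).1 (Orbits.comp (sixT.getD 3 []) (qm 43)))) = true := by
  decide +kernel

theorem word_ok : (Nat.beq (wordCode (wordG.getD 0 [])) (genP.getD 6 0) &&
    Nat.beq (wordCode (wordG.getD 1 [])) (genP.getD 8 0)) = true := by decide +kernel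

end Cfsg.Agent.J4Uniq
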