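import Cfsg.Agent.J4Type.V11.Lift
import Cfsg.Agent.J4Type.ClassesThree
import Cfsg.Agent.J4Type.CoverFinal
import Cfsg.Agent.J4Type.FusionMain
import Cfsg.Agent.J4Type.Orbits.Lin
import Cfsg.Agent.S2062
import Cfsg.Agent.M22Order.Degrees
import Cfsg.Agent.M22Order.Col

/-!
# The central involution of the centraliser of an element of order three
-/

set_option autoImplicit false

open Cfsg Subgroup

namespace Cfsg.Agent.J4Uniq

open LargeExtra (oc)
open J4Type (mSub cSub)
open J4Type.V11

universe u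

variable {G : Type u} [Group G] [Finite G] {z : G} {P : Subgroup G} {V : Type*} [AddCommGroup V]
  {π : ↥(oc z) →* Multiplicative V} {ρ : ↥(mSub z P) →* Equiv.Perm V} {q : V → ZMod 2} {B : List V}

/-- An involution of M22 commutes with no element of order seven. -/
theorem m22_seven {a b : ↥Spor.M22} (ha : orderOf a = 7) (hb : orderOf b = 2) : ¬ Commute b a := by
  intro hc
  have := Fintype.ofFinite ↥Spor.M22
  have := Compute.isSimpleGroup_m22
  have : Fact (Nat.Prime 7) := ⟨by norm_num⟩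
  have hF : M22Order.Facts ↥Spor.M22 := M22Order.facts Compute.card_m22
  refine hF.centralizer_coprime (p := 7) (e := 3) (by simp) (x := b) (fun h => by simp [h] at hb)
    (by rw [hb]; norm_num) ?_
  rw [← ha]
  exact Subgroup.orderOf_dvd_natCard _ (mem_centralizer_singleton_iff.2 hc.symm.eq)

/-- **The central involution of the centraliser of an element of order three, and its uniqueness among
the involutions commuting with an element of order seven of that centraliser.** -/
theorem exists_three_centre (S : Sys z P π ρ q B) {g : G} (hg : orderOf g = 3) :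
    ∃ t : G, t ≠ 1 ∧ t * t = 1 ∧ IsConj z t ∧ Commute t g ∧ (∀ x, Commute x g → Commute x t) ∧
      ∀ s w : G, s * s = 1 → s ≠ 1 → Commute s g → orderOf w = 7 → Commute w g → Commute s w → s = t := by
  classical
  have hJ := S.D.hJ
  obtain ⟨B', hM⟩ := J4Type.Orbits.exists_model_janko hJ
  obtain ⟨v, hv⟩ := S.conf
  obtain ⟨hperf, hcyc, hZ, hIso, hN⟩ := J4Type.sixfold_of_conf hJ hM hM.linFacts hv
  have := Compute.isSimpleGroup_m22
  obtain ⟨p, hpP, hp1⟩ : ∃ p ∈ P, p ≠ 1 := by
    by_contra h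
    push Not at h
    have hb : P = ⊥ := P.eq_bot_iff_forall.2 h
    have := hJ.2.2.2.2.2.1
    rw [hb, Subgroup.card_bot] at this
    norm_num at this
  have hPc : Nat.card P = 3 := hJ.2.2.2.2.2.1
  have : Fact (Nat.Prime 3) := ⟨Nat.prime_three⟩
  have hop : orderOf p = 3 :=
    ((Nat.dvd_prime Nat.prime_three).1 (hPc ▸ P.orderOf_dvd_natCard hpP)).resolve_left
      (fun h => hp1 (orderOf_eq_one_iff.1 h))
  have hPp : zpowers p = P :=
    Subgroup.eq_of_le_of_card_ge (zpowers_le.2 hpP) (by rw [Nat.card_zpowers, hop, hPc])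
  obtain ⟨c, hc⟩ := isConj_iff.1 (J4Type.isConj_three S2062.result hJ hperf hZ hIso hN
    (J4Type.exists_conj_cSub (J4Type.Base.actData hJ) hM.linFacts hv) p g hop hg)
  -- membership in the centraliser of `P`
  have hcent : ∀ {x : G}, Commute x p → x ∈ cSub z P := fun {x} hx => by
    have hxP : x ∈ centralizer (P : Set G) := mem_centralizer_iff.2 fun a ha => by
      rw [SetLike.mem_coe, ← hPp] at ha
      obtain ⟨k, rfl⟩ := mem_zpowers_iff.1 ha
      exact (hx.zpow_right k).eq.symm
    exact ⟨hN (centralizer_le_normalizer _ hxP), hxP⟩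
  have back : ∀ {x : G}, Commute x g → Commute (c⁻¹ * x * c) p := fun {x} hx => by
    rw [← hc] at hx
    have := hx.map (MulAut.conj c⁻¹).toMonoidHom
    simp only [MulEquiv.coe_toMonoidHom, MulAut.conj_apply, inv_inv] at this
    rwa [show c⁻¹ * (c * p * c⁻¹) * c = p by group] at this
  have fwd : ∀ {x y : G}, Commute (c⁻¹ * x * c) y → Commute x (c * y * c⁻¹) := fun {x y} hx => by
    have := hx.map (MulAut.conj c).toMonoidHom
    simp only [MulEquiv.coe_toMonoidHom, MulAut.conj_apply] at this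
    rwa [show c * (c⁻¹ * x * c) * c⁻¹ = x by group] at this
  have hzp : Commute z p := (S.D.comm_z (hcent (Commute.refl p)).1).symm
  have hz1 := S.D.z_ne
  refine ⟨c * z * c⁻¹, fun h => hz1 (conj_eq_one_iff.1 h), ?_, isConj_iff.2 ⟨c, rfl⟩, ?_, ?_, ?_⟩
  · rw [show c * z * c⁻¹ * (c * z * c⁻¹) = c * (z * z) * c⁻¹ by group, S.D.zz]; group
  · rw [← hc]
    exact hzp.map (MulAut.conj c).toMonoidHom
  · exact fun x hx => fwd (S.D.comm_z (hcent (back hx)).1)
  intro s w hs2 hs1 hsg hw hwg hsw
  set s' := c⁻¹ * s * c with hs'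
  set w' := c⁻¹ * w * c with hw'
  have hs'C : s' ∈ J4Type.Base.CP z P := hcent (back hsg)
  have hw'C : w' ∈ J4Type.Base.CP z P := hcent (back hwg)
  have hs'2 : s' * s' = 1 := by rw [hs', show c⁻¹ * s * c * (c⁻¹ * s * c) = c⁻¹ * (s * s) * c by group, hs2]; group
  have hs'1 : s' ≠ 1 := fun h => hs1 (by
    rw [← show c * s' * c⁻¹ = s by rw [hs']; group, h]; group)
  have hw'7 : orderOf w' = 7 := by
    rw [hw', show c⁻¹ * w * c = MulAut.conj c⁻¹ w by simp, MulEquiv.orderOf_eq, hw]
  have hs'w' : Commute s' w' := by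
    have := hsw.map (MulAut.conj c⁻¹).toMonoidHom
    simpa [MulAut.conj_apply] using this
  obtain ⟨e⟩ := hIso
  let f : ↥(J4Type.Base.CP z P) →* ↥Spor.M22 := e.toMonoidHom.comp (QuotientGroup.mk' _)
  have hker : f.ker = center ↥(J4Type.Base.CP z P) := by
    rw [MonoidHom.ker_comp_of_injective _ _ e.injective, QuotientGroup.ker_mk']
  have hfw : orderOf (f ⟨w', hw'C⟩) = 7 := by
    have : Fact (Nat.Prime 7) := ⟨by norm_num⟩
    refine orderOf_eq_prime (by rw [← map_pow, show (⟨w', hw'C⟩ : ↥(J4Type.Base.CP z P)) ^ 7 = 1 from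
      Subtype.ext (by simpa using hw'7 ▸ pow_orderOf_eq_one w'), map_one]) fun h => ?_
    have h' : (⟨w', hw'C⟩ : ↥(J4Type.Base.CP z P)) ∈ center ↥(J4Type.Base.CP z P) := hker ▸ MonoidHom.mem_ker.2 h
    have := Subgroup.orderOf_dvd_natCard _ h'
    rw [Subgroup.orderOf_mk, hw'7, hZ] at this
    norm_num at this
  have hfs : f ⟨s', hs'C⟩ = 1 := by
    by_contra h
    refine m22_seven hfw (orderOf_eq_prime (by
      rw [← map_pow, show (⟨s', hs'C⟩ : ↥(J4Type.Base.CP z P)) ^ 2 = 1 from
        Subtype.ext (by simpa [pow_two] using hs'2), map_one]) h) ?_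
    exact (show Commute (⟨s', hs'C⟩ : ↥(J4Type.Base.CP z P)) ⟨w', hw'C⟩ from Subtype.ext hs'w'.eq).map f
  have hsc : (⟨s', hs'C⟩ : ↥(J4Type.Base.CP z P)) ∈ center ↥(J4Type.Base.CP z P) := hker ▸ MonoidHom.mem_ker.2 hfs
  have hzC : z ∈ J4Type.Base.CP z P := J4Type.Base.z_mem_CP hJ
  have hzc : (⟨z, hzC⟩ : ↥(J4Type.Base.CP z P)) ∈ center ↥(J4Type.Base.CP z P) :=
    Subgroup.mem_center_iff.2 fun a => Subtype.ext (S.D.comm_z a.2.1).eq
  have := hcyc
  have : Fintype ↥(center ↥(J4Type.Base.CP z P)) := Fintype.ofFinite _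
  have hcard := IsCyclic.card_pow_eq_one_le (α := ↥(center ↥(J4Type.Base.CP z P))) (n := 2) (by norm_num)
  have key : s' = z := by
    by_contra hne
    have hsub : ({1, ⟨_, hsc⟩, ⟨_, hzc⟩} : Finset ↥(center ↥(J4Type.Base.CP z P))).card = 3 := by
      rw [Finset.card_eq_three]
      refine ⟨_, _, _, ?_, ?_, ?_, rfl⟩
      · exact fun h => hs'1 (congrArg Subtype.val (congrArg Subtype.val h)).symm
      · exact fun h => hz1 (congrArg Subtype.val (congrArg Subtype.val h)).symm
      · exact fun h => hne (congrArg Subtype.val (congrArg Subtype.val h))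
    have hle : ({1, ⟨_, hsc⟩, ⟨_, hzc⟩} : Finset ↥(center ↥(J4Type.Base.CP z P))) ⊆
        Finset.univ.filter fun a => a ^ 2 = 1 := by
      intro a ha
      rw [Finset.mem_filter]
      refine ⟨Finset.mem_univ a, ?_⟩
      simp only [Finset.mem_insert, Finset.mem_singleton] at ha
      rcases ha with rfl | rfl | rfl
      · exact one_pow 2
      · exact Subtype.ext (Subtype.ext (by simpa [pow_two] using hs'2))
      · exact Subtype.ext (Subtype.ext (by simpa [pow_two] using S.D.zz))
    have := (Finset.card_le_card hle).trans hcard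
    omega
  rw [← key, hs']; group

end Cfsg.Agent.J4Uniq
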