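import Cfsg.Agent.J4Type.Trio.Quot
import Cfsg.Agent.J4Type.V11.CentralizerA
import Cfsg.Agent.J4Type.V11.Orbit
import Cfsg.Agent.J4Uniq.CentreThree
import Cfsg.Agent.J4Uniq.CentreData

/-!
# The involution centralising the stabiliser of a trio
-/

set_option autoImplicit false
set_option maxRecDepth 20000

open Cfsg Subgroup

namespace Cfsg.Agent.J4Uniq

open LargeExtra (oc)
open J4Type (mSub)
open J4Type.V11 J4Type.Trio
open J4Type.Rep (app app_xor app_app app_zero)
open J4Type.Orbits (eqM_iff)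

universe u

variable {G : Type u} [Group G] [Finite G] {z : G} {P : Subgroup G} {V : Type*} [AddCommGroup V]
  {π : ↥(oc z) →* Multiplicative V} {ρ : ↥(mSub z P) →* Equiv.Perm V} {q : V → ZMod 2} {B : List V}
  {S : Sys z P π ρ q B} {F : Frame S}

/-- Two matrices of one element agree. -/
theorem same_of_is {K : Subgroup G} {M N : List ℕ} {a : G} (hM : Is F K M a) (hN : Is F K N a) :
    sameB M N = true := by
  refine List.all_eq_true.2 fun i hi => ?_
  have hlt : 2 ^ i < 2048 := lt_of_lt_of_le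
    (Nat.pow_lt_pow_right (by norm_num) (List.mem_range.1 hi)) (le_refl (2 ^ 11))
  rw [F.phi_inj (app_lt' hM.2.1 _) (app_lt' hN.2.1 _) ((hM.conj hlt).symm.trans (hN.conj hlt))]
  exact Nat.beq_refl _

/-- Matrices agreeing on the unit vectors give one element. -/
theorem eq_of_same {K : Subgroup G} (hK : Comp F K) {M N : List ℕ} {a b : G} (hM : Is F K M a)
    (hN : Is F K N b) (h : sameB M N = true) : a = b := by
  have hMN : ∀ x < 2048, app M x = app N x :=
    bitInd 11 (by rw [app_zero, app_zero]) (fun x y _ _ hx hy => by rw [app_xor, app_xor, hx, hy])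
      fun i hi => beq_nat (all_range h hi)
  exact Is.unique hK hM ⟨hN.1, hM.2.1, fun x hx => by rw [hN.conj hx, hMN x hx]⟩

/-- Products of the group and the complement are unique. -/
theorem split_unique {K : Subgroup G} (hK : Comp F K) {x y : ℕ} (hx : x < 2048) (hy : y < 2048) {a b : G}
    (ha : a ∈ K) (hb : b ∈ K) (e : F.phi x * a = F.phi y * b) : x = y ∧ a = b := by
  have hq : a * b⁻¹ ∈ K ⊓ F.grp := by
    refine ⟨K.mul_mem ha (K.inv_mem hb), (?_ : _ ∈ F.grp)⟩
    have e2 : a * b⁻¹ = (F.phi x)⁻¹ * F.phi y := by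
      rw [eq_inv_mul_iff_mul_eq, ← mul_assoc, e, mul_inv_cancel_right]
    rw [e2]
    exact F.grp.mul_mem (F.grp.inv_mem (F.phi_mem hx)) (F.phi_mem hy)
  rw [hK.inf, mem_bot, mul_inv_eq_one] at hq
  subst hq
  exact ⟨F.phi_inj hx hy (mul_right_cancel e), rfl⟩

/-- A product commuting with an element of the complement. -/
theorem split_commute {K : Subgroup G} (hK : Comp F K) {M N : List ℕ} {x : ℕ} (hx : x < 2048) {g k : G}
    (hg : Is F K M g) (hk : Is F K N k) (e : Commute g (F.phi x * k)) :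
    app M x = x ∧ sameB (J4Type.Orbits.comp M N) (J4Type.Orbits.comp N M) = true := by
  have h1 : F.phi (app M x) * (g * k) = F.phi x * (k * g) := by
    rw [← hg.conj hx, show g * F.phi x * g⁻¹ * (g * k) = g * (F.phi x * k) by group, e.eq]; group
  obtain ⟨h2, h3⟩ := split_unique hK (app_lt' hg.2.1 x) hx (K.mul_mem hg.1 hk.1) (K.mul_mem hk.1 hg.1) h1
  exact ⟨h2, same_of_is (hg.mul hk) (h3.symm ▸ hk.mul hg)⟩

variable (T : Gens F)


theorem v9_cent {h : G} (hc : ∀ x < 2048, cls x = 0 → Commute h (F.phi x)) : h ∈ F.grp := by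
  refine F.mem_grp_of_comm (mem_centralizer_singleton_iff.2 ?_) fun k hk => hc k (by omega) ?_
  · rw [← F.phi_z]; exact (hc 64 (by norm_num) rfl).eq
  · have h8 : Nat.shiftRight k 8 = 0 := by
      show k >>> 8 = 0
      rw [Nat.shiftRight_eq_div_pow, Nat.div_eq_of_lt (by omega)]
    have h10 : Nat.shiftRight k 10 = 0 := by
      show k >>> 10 = 0
      rw [Nat.shiftRight_eq_div_pow, Nat.div_eq_of_lt (by omega)]
    rw [cls, h8, h10]

/-- The element with the given number in the complement of the kernel, with what commutes with it. -/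
theorem exists_h0 {t : G} (h : ∀ k, 6 ≤ k → k < 10 → Commute t (T.g k)) {e : ℕ × ℕ} (h1 : e.1 < 168)
    (h2 : e.2 < 6) : ∃ g, Is F T.K (hm e) g ∧ Commute t g := by
  obtain ⟨a, ha, hai⟩ := T.lin_is h1
  refine ⟨a * T.sx e.2, hai.mul (T.sx_is h2), Commute.mul_right ?_ ?_⟩
  · have hle : closure ({T.g 6, T.g 7} : Set G) ≤ centralizer ({t} : Set G) := by
      rw [closure_le]
      rintro x (rfl | rfl)
      · exact mem_centralizer_singleton_iff.2 (h 6 le_rfl (by norm_num)).symm.eq
      · exact mem_centralizer_singleton_iff.2 (h 7 (by norm_num) (by norm_num)).symm.eq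
    exact (show Commute a t from mem_centralizer_singleton_iff.1 (hle ha)).symm
  · have h8 := h 8 (by norm_num) (by norm_num)
    have h9 := h 9 (by norm_num) (by norm_num)
    have hs := six_ok
    simp only [Bool.and_eq_true, eqM_iff] at hs
    obtain ⟨⟨⟨⟨⟨e0, e1⟩, e2⟩, e3⟩, e4⟩, e5⟩ := hs
    have hx := T.spec 8 (by norm_num)
    have hy := T.spec 9 (by norm_num)
    obtain ⟨i, hi⟩ : ∃ i, i = e.2 := ⟨_, rfl⟩
    rw [← hi] at h2 ⊢
    interval_cases i
    · rw [Gens.sx, T.el_spec (e0 ▸ Is.one)]; exact Commute.one_right t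
    · rw [Gens.sx, T.el_spec (e1 ▸ hx)]; exact h8
    · rw [Gens.sx, T.el_spec (e2 ▸ hx.mul hx)]; exact h8.mul_right h8
    · rw [Gens.sx, T.el_spec (e3 ▸ hy)]; exact h9
    · rw [Gens.sx, T.el_spec (e4 ▸ hy.mul hx)]; exact h9.mul_right h8
    · rw [Gens.sx, T.el_spec (e5 ▸ hy.mul (hx.mul hx))]; exact h9.mul_right (h8.mul_right h8)

theorem foldr_good {f : ℕ → ℕ} {n : ℕ} (P : ℕ → Prop) (h0 : P 0) (hadd : ∀ a b, P a → P b → P (Nat.xor a b))
    (hf : ∀ i < n, P (f i)) {l : List ℕ} (hl : l.all (fun i => Nat.blt i n) = true) :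
    P (l.foldr (fun i r => Nat.xor (f i) r) 0) := by
  induction l with
  | nil => exact h0
  | cons a l ih =>
    rw [List.all_cons, Bool.and_eq_true] at hl
    exact hadd _ _ (hf a (blt_nat hl.1)) (ih hl.2)

theorem orderOf_g8 : orderOf (T.g 8) = 3 := by
  have h := order_ok
  simp only [Bool.and_eq_true, Bool.not_eq_true', eqM_iff] at h
  obtain ⟨⟨h3, -⟩, h1⟩ := h
  have i8 := T.spec 8 (by norm_num)
  have : Fact (Nat.Prime 3) := ⟨Nat.prime_three⟩
  refine orderOf_eq_prime ?_ fun e => ?_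
  · rw [pow_succ', pow_two]
    exact Is.unique T.comp (i8.mul (i8.mul i8)) (h3 ▸ Is.one)
  · have := same_of_is (e ▸ i8) (Is.one (F := F) (K := T.K))
    exact absurd this (by decide +kernel)

theorem comm_g {a b : ℕ} (ha : a < 10) (hb : b < 10)
    (h : J4Type.Orbits.comp (gm a) (gm b) = J4Type.Orbits.comp (gm b) (gm a)) : Commute (T.g a) (T.g b) :=
  Is.unique T.comp ((T.spec a ha).mul (T.spec b hb)) (h ▸ (T.spec b hb).mul (T.spec a ha))

theorem orderOf_g6 : orderOf (T.g 6) = 7 := by
  have : Fact (Nat.Prime 7) := ⟨by norm_num⟩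
  exact orderOf_eq_prime (T.seven (e := 0) (by norm_num)).1 (T.seven (e := 0) (by norm_num)).2

/-- The involution of the centraliser of the element of order three centralises its overgroups. -/
theorem exists_base : ∃ t : G, t ≠ 1 ∧ t * t = 1 ∧ IsConj z t ∧ t ∈ cz F ∧ t ∉ F.nrm ∧
    (∀ k, 6 ≤ k → k < 10 → Commute t (T.g k)) ∧
    ∀ s : G, s * s = 1 → s ≠ 1 → Commute s (T.g 6) → Commute s (T.g 8) → s = t := by
  obtain ⟨t, ht1, ht2, htz, ht8, hcen, huniq⟩ := exists_three_centre S (orderOf_g8 T)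
  have hc := comm_ok
  simp only [Bool.and_eq_true, eqM_iff] at hc
  obtain ⟨⟨⟨c68, c78⟩, c96⟩, c98⟩ := hc
  have h6 : Commute t (T.g 6) := (hcen _ (comm_g T (by norm_num) (by norm_num) c68)).symm
  have h7 : Commute t (T.g 7) := (hcen _ (comm_g T (by norm_num) (by norm_num) c78)).symm
  have huniq' : ∀ s : G, s * s = 1 → s ≠ 1 → Commute s (T.g 6) → Commute s (T.g 8) → s = t :=
    fun s hs hs1 hs6 hs8 => huniq s (T.g 6) hs hs1 hs8 (orderOf_g6 T)
      (comm_g T (by norm_num) (by norm_num) c68) hs6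
  have h9 : Commute t (T.g 9) := by
    have i8 := T.spec 8 (by norm_num)
    have i9 := T.spec 9 (by norm_num)
    have e : T.g 9 * T.g 8 = T.g 8 * T.g 8 * T.g 9 :=
      Is.unique T.comp (i9.mul i8) (c98.symm ▸ (i8.mul i8).mul i9)
    have e' : T.g 8 * T.g 9 = T.g 9 * (T.g 8 * T.g 8) := by
      rw [← mul_assoc (T.g 9), e, mul_assoc (T.g 8 * T.g 8), e, ← mul_assoc, ← mul_assoc]
      have h3 : T.g 8 * T.g 8 * T.g 8 = 1 := by
        have := pow_orderOf_eq_one (T.g 8)
        rwa [orderOf_g8 T, pow_succ, pow_two] at this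
      rw [h3, one_mul]
    have hs : T.g 9 * t * (T.g 9)⁻¹ = t := by
      refine huniq' _ ?_ (fun h => ht1 (conj_eq_one_iff.1 h)) ?_ ?_
      · rw [show T.g 9 * t * (T.g 9)⁻¹ * (T.g 9 * t * (T.g 9)⁻¹) = T.g 9 * (t * t) * (T.g 9)⁻¹ by group, ht2]
        group
      · have := h6.map (MulAut.conj (T.g 9)).toMonoidHom
        simp only [MulEquiv.coe_toMonoidHom, MulAut.conj_apply] at this
        rwa [mul_inv_eq_iff_eq_mul.2 (comm_g T (a := 9) (b := 6) (by norm_num) (by norm_num) c96).eq] at this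
      · have := (ht8.mul_right ht8).map (MulAut.conj (T.g 9)).toMonoidHom
        simp only [MulEquiv.coe_toMonoidHom, MulAut.conj_apply] at this
        rwa [← e', mul_inv_cancel_right] at this
    exact (mul_inv_eq_iff_eq_mul.1 hs).symm
  have hcz : t ∈ cz F := by
    refine mem_centralizer_iff.2 ?_
    rintro _ ⟨a, ha, rfl⟩
    have e := List.all_eq_true.1 fix8_z a ha
    exact (hcen _ ((T.spec 8 (by norm_num)).commute (zT_lt ha) (beq_nat e)).symm).eq
  refine ⟨t, ht1, ht2, htz, hcz, fun hn => ?_, fun k h1 h2 => ?_, huniq'⟩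
  · have hk : t ∈ T.kf := by rw [T.kf_eq]; exact ⟨hcz, hn⟩
    obtain ⟨x, hx, a, ha, b, hb, e⟩ := T.mem_kf.1 hk
    have ik := (T.sx_is ha).mul (T.qe_is hb)
    obtain ⟨x6, s6⟩ := split_commute T.comp hx (T.spec 6 (by norm_num)) ik (e ▸ h6.symm)
    obtain ⟨x8, s8⟩ := split_commute T.comp hx (T.spec 8 (by norm_num)) ik (e ▸ ht8.symm)
    have hx0 := all_range fix68_ok hx
    simp only [Bool.or_eq_true, Bool.not_eq_true', x6, x8, Nat.beq_refl, Bool.true_eq_false, or_false] at hx0
    have hx0' := beq_nat hx0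
    subst hx0'
    rw [F.phi_zero, one_mul] at e
    have hsq := same_of_is (ik.mul ik) (by rw [e, ht2]; exact Is.one)
    have i6 := T.spec 6 (by norm_num)
    have i8 := T.spec 8 (by norm_num)
    have r6 := same_of_is (ik.mul i6) (by rw [e, h6.eq, ← e]; exact i6.mul ik)
    have r8 := same_of_is (ik.mul i8) (by rw [e, ht8.eq, ← e]; exact i8.mul ik)
    have h := all_range (all_range kf_ok ha) hb
    simp only [Bool.or_eq_true, Bool.and_eq_true, Bool.not_eq_true', hsq, r6, r8, Bool.true_eq_false,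
      or_false] at h
    obtain ⟨ha0, hb0⟩ := h
    have := beq_nat ha0
    have := beq_nat hb0
    subst_vars
    rw [T.sx_zero, T.qe_zero, one_mul] at ht1
    exact ht1 rfl
  · rcases (show k = 6 ∨ k = 7 ∨ k = 8 ∨ k = 9 by omega) with rfl | rfl | rfl | rfl
    exacts [h6, h7, ht8, h9]

/-- **An involution centralising the stabiliser of the trio, for a pure complement.** -/
theorem exists_trio_centre (hF : F.Good) (hp : ¬ IsConj z (T.g 0)) :
    ∃ t : G, t ≠ 1 ∧ t * t = 1 ∧ IsConj z t ∧ t ∈ cz F ∧ t ∉ F.nrm ∧ (∀ k < 10, Commute t (T.g k)) ∧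
      ∀ s : G, s * s = 1 → s ≠ 1 → Commute s (T.g 6) → Commute s (T.g 8) → s = t := by
  obtain ⟨t, ht1, ht2, htz, hcz, hnn, hk, huniq⟩ := exists_base T
  refine ⟨t, ht1, ht2, htz, hcz, hnn, ?_, huniq⟩
  have hx := xT_ok
  simp only [Bool.and_eq_true, Bool.not_eq_true', List.all_eq_true] at hx
  obtain ⟨⟨⟨⟨⟨⟨⟨⟨⟨hxs, x6⟩, x7⟩, x8⟩, h326⟩, hc26⟩, hq3⟩, hq1⟩, ht648⟩, hq0⟩ := hx
  have h326 := beq_nat h326
  have htinv : t⁻¹ = t := inv_eq_of_mul_eq_one_right ht2
  have hq : T.qe 3 ∈ T.l0 := ⟨0, by norm_num, rfl, 3, by norm_num, by rw [F.phi_zero, one_mul]⟩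
  have hwl : t * T.qe 3 * t ∈ T.l0 := by
    have := (mem_normalizer_iff.1 (T.mg_le_normalizer (cz_le_mg hcz)) _).1 hq
    rwa [htinv] at this
  obtain ⟨x, hx, ex, a, ha, ew⟩ := T.mem_l0.1 hwl
  -- the fixed elements
  have hst : ∀ e ∈ stT, app (hm e) x = x ∧
      sameB (J4Type.Orbits.comp (hm e) (qm a)) (J4Type.Orbits.comp (qm a) (hm e)) = true := by
    intro e he
    have h := List.all_eq_true.1 st_ok e he
    simp only [Bool.and_eq_true, eqM_iff] at h
    obtain ⟨g, hg, hgt⟩ := exists_h0 T hk (blt_nat h.1.1) (blt_nat h.1.2)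
    have hgq : Commute g (T.qe 3) := Is.unique T.comp (hg.mul (T.qe_is (by norm_num)))
      (h.2.symm ▸ (T.qe_is (by norm_num)).mul hg)
    exact split_commute T.comp hx hg (T.qe_is ha) (ew.symm ▸ (hgt.symm.mul_right hgq).mul_right hgt.symm)
  have hxc : x = 0 ∨ x = 26 := by
    have h := all_range fixX_ok hx
    simp only [Bool.or_eq_true, Bool.not_eq_true', ex, Nat.beq_refl, Bool.true_eq_false, false_or,
      List.any_eq_true] at h
    rcases h with (h | h) | ⟨e, he, h⟩
    · exact Or.inl (beq_nat h)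
    · exact Or.inr (beq_nat h)
    · rw [(hst e he).1, Nat.beq_refl] at h; exact Bool.noConfusion h
  have hac : a = 0 ∨ a = 3 := by
    have h := all_range fixA_ok ha
    simp only [Bool.or_eq_true, Bool.not_eq_true', List.any_eq_true] at h
    rcases h with (h | h) | ⟨e, he, h⟩
    · exact Or.inl (beq_nat h)
    · exact Or.inr (beq_nat h)
    · rw [(hst e he).2] at h; exact Bool.noConfusion h
  -- the conjugates
  have hsel : ∀ i < 6, ∃ g, Commute t g ∧ (g * T.qe 3 * g⁻¹ = T.qe (selT.getD i ((0, 0), 0, 0)).2.1) ∧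
      (selT.getD i ((0, 0), 0, 0)).2.1 < 64 ∧ g * F.phi 26 * g⁻¹ = F.phi (selT.getD i ((0, 0), 0, 0)).2.2 := by
    intro i hi
    have he : selT.getD i ((0, 0), 0, 0) ∈ selT := by
      rw [List.getD_eq_getElem _ _ (show i < selT.length from hi)]
      exact List.getElem_mem _
    have h := List.all_eq_true.1 sel_ok _ he
    simp only [Bool.and_eq_true, eqM_iff] at h
    obtain ⟨⟨⟨⟨h1, h2⟩, h3⟩, h4⟩, h5⟩ := h
    obtain ⟨g, hg, hgt⟩ := exists_h0 T hk (blt_nat h1) (blt_nat h2)
    refine ⟨g, hgt, mul_inv_eq_iff_eq_mul.2 (Is.unique T.comp (hg.mul (T.qe_is (by norm_num)))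
      (h4.symm ▸ (T.qe_is (blt_nat h3)).mul hg)), blt_nat h3, ?_⟩
    rw [hg.conj (by norm_num), beq_nat h5]
  have hxor : ∀ a b : ℕ, Nat.xor a b = a ^^^ b := fun _ _ => rfl
  rcases hac with rfl | rfl
  · -- the image lies in the subgroup of index four
    exfalso
    rw [T.qe_zero, mul_one] at ew
    rcases hxc with rfl | rfl
    · rw [F.phi_zero] at ew
      have h3 : T.qe 3 = 1 := by
        calc T.qe 3 = t * (t * T.qe 3 * t) * t := by
              rw [show t * (t * T.qe 3 * t) * t = t * t * T.qe 3 * (t * t) by group, ht2]; group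
          _ = 1 := by rw [← ew, mul_one, ht2]
      have := same_of_is (h3 ▸ T.qe_is (a := 3) (by norm_num)) (Is.one (F := F) (K := T.K))
      rw [this] at hq3; exact Bool.noConfusion hq3
    apply hp
    have himg : ∀ i < 6, t * T.qe (selT.getD i ((0, 0), 0, 0)).2.1 * t =
        F.phi (selT.getD i ((0, 0), 0, 0)).2.2 := fun i hi => by
      obtain ⟨g, hgt, e1, -, e2⟩ := hsel i hi
      rw [← e1, ← e2]
      calc t * (g * T.qe 3 * g⁻¹) * t = t * g * T.qe 3 * (g⁻¹ * t) := by group
        _ = g * t * T.qe 3 * (t * g⁻¹) := by rw [hgt.eq, hgt.inv_right.eq]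
        _ = g * (t * T.qe 3 * t) * g⁻¹ := by group
        _ = _ := by rw [ew]
    have mm : ∀ {a b : G}, t * (a * b) * t = t * a * t * (t * b * t) := fun {a b} => by
      rw [show t * a * t * (t * b * t) = t * a * (t * t) * b * t by group, ht2]; group
    have e1 : T.qe 1 = T.qe 24 * T.qe 43 * T.qe 16 * T.qe 34 := by
      rw [T.qe_mul (by decide) (by decide), T.qe_mul (by decide) (by decide),
        T.qe_mul (by decide) (by decide)]
      rfl
    have e2 : t * T.qe 1 * t = F.phi 648 := by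
      rw [e1, mm, mm, mm, show t * T.qe 24 * t = F.phi 97 from himg 1 (by norm_num),
        show t * T.qe 43 * t = F.phi 92 from himg 2 (by norm_num),
        show t * T.qe 16 * t = F.phi 108 from himg 3 (by norm_num),
        show t * T.qe 34 * t = F.phi 729 from himg 4 (by norm_num), ← F.phi_xor, ← F.phi_xor, ← F.phi_xor]
      rfl
    have hz648 : IsConj z (F.phi 648) := by
      by_contra hn
      have := (F.sec_iff hF (by norm_num)).1 ⟨by norm_num, hn⟩
      rw [this] at ht648; exact Bool.noConfusion ht648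
    have hg0 : T.g 0 = T.qe 1 := (T.qe_two_pow (k := 0) (by norm_num)).symm
    rw [hg0]
    refine hz648.trans (isConj_iff.2 ⟨t, ?_⟩)
    rw [← e2, htinv, show t * (t * T.qe 1 * t) * t = t * t * T.qe 1 * (t * t) by group, ht2]; group
  · rcases hxc with rfl | rfl
    · -- the wanted case
      rw [F.phi_zero, one_mul] at ew
      have h3 : Commute t (T.qe 3) := by
        show t * T.qe 3 = T.qe 3 * t
        calc t * T.qe 3 = t * T.qe 3 * (t * t) := by rw [ht2, mul_one]
          _ = t * T.qe 3 * t * t := by group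
          _ = T.qe 3 * t := by rw [← ew]
      have hgood : ∀ i < 6, (selT.getD i ((0, 0), 0, 0)).2.1 < 64 ∧
          Commute t (T.qe (selT.getD i ((0, 0), 0, 0)).2.1) := fun i hi => by
        obtain ⟨g, hgt, e1, hlt, -⟩ := hsel i hi
        exact ⟨hlt, e1 ▸ (hgt.mul_right h3).mul_right hgt.inv_right⟩
      have hall : ∀ k < 6, Commute t (T.g k) := by
        intro k hk
        have h := all_range qcomb_ok hk
        simp only [Bool.and_eq_true] at h
        rw [← T.qe_two_pow hk, ← beq_nat h.2]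
        exact (foldr_good (fun a => a < 64 ∧ Commute t (T.qe a)) ⟨by norm_num, by rw [T.qe_zero]; exact Commute.one_right t⟩
          (fun a b ha hb => ⟨Nat.xor_lt_two_pow (n := 6) ha.1 hb.1, by
            rw [hxor, ← T.qe_mul ha.1 hb.1]; exact ha.2.mul_right hb.2⟩) hgood h.1).2
      intro k hk'
      rcases Nat.lt_or_ge k 6 with h | h
      exacts [hall k h, hk k h hk']
    · -- the subgroup of index four would be centralised
      exfalso
      apply hnn
      have hq2 : T.qe 3 * T.qe 3 = 1 := by rw [T.qe_mul (by norm_num) (by norm_num), Nat.xor_self, T.qe_zero]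
      have e26 : Commute t (F.phi 26) := by
        have hc : Commute (T.qe 3) (F.phi 26) := (T.qe_is (by norm_num)).commute (by norm_num) h326
        have e3 : F.phi 26 = t * T.qe 3 * t * T.qe 3 := by rw [← ew, mul_assoc, hq2, mul_one]
        show t * F.phi 26 = F.phi 26 * t
        calc t * F.phi 26 = t * t * T.qe 3 * t * T.qe 3 := by rw [e3]; group
          _ = T.qe 3 * (t * T.qe 3 * t) * t := by
            rw [ht2, show T.qe 3 * (t * T.qe 3 * t) * t = T.qe 3 * t * T.qe 3 * (t * t) by group, ht2]; group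
          _ = T.qe 3 * F.phi 26 * T.qe 3 * t := by rw [← ew]; group
          _ = F.phi 26 * t := by rw [hc.eq, mul_assoc (F.phi 26), hq2, mul_one]
      have hgood : ∀ i < 9, Commute t (F.phi (xT.getD i 0)) := by
        intro i hi
        rcases Nat.lt_or_ge i 6 with h6 | h6
        · rw [beq_nat (hxs i (List.mem_range.2 h6))]
          obtain ⟨g, hgt, -, -, e2⟩ := hsel i h6
          exact e2 ▸ (hgt.mul_right e26).mul_right hgt.inv_right
        · refine cz_commute F hcz ?_
          rw [List.elem_eq_contains, List.contains_iff_mem] at x6 x7 x8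
          rcases (show i = 6 ∨ i = 7 ∨ i = 8 by omega) with rfl | rfl | rfl
          exacts [x6, x7, x8]
      have hall : ∀ y < 2048, Commute t (F.phi (y &&& 767)) := by
        refine bitInd 11 (P := fun y => Commute t (F.phi (y &&& 767)))
          (by rw [Nat.zero_and, F.phi_zero]; exact Commute.one_right t)
          (fun a b _ _ ha hb => by rw [Nat.and_xor_distrib_right, F.phi_xor]; exact ha.mul_right hb)
          fun i hi => ?_
        have h := all_range vcomb_ok hi
        simp only [Bool.and_eq_true] at h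
        rw [show 2 ^ i &&& 767 = Nat.land (2 ^ i) 767 from rfl, ← beq_nat h.2]
        exact foldr_good (fun a => Commute t (F.phi a)) (by rw [F.phi_zero]; exact Commute.one_right t)
          (fun a b ha hb => by rw [hxor, F.phi_xor]; exact ha.mul_right hb) hgood h.1
      refine F.grp_le_nrm (v9_cent fun y hy ey => ?_)
      have := hall y hy
      rwa [(cls_iff hy).1 ey] at this

end Cfsg.Agent.J4Uniq
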