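import Cfsg.Agent.J4Uniq.Base
import Cfsg.Agent.J4Uniq.CentreTrio

/-!
# The third generator exists and is unique
-/

set_option autoImplicit false
set_option maxRecDepth 20000

open Cfsg Subgroup

namespace Cfsg.Agent.J4Uniq

open LargeExtra (oc)
open J4Type (mSub)
open J4Type.V11 J4Type.Trio TenLocal
open J4Type.Rep (app app_xor app_zero)
open J4Type.Orbits (eqM_iff)
open Compute (rep24)

universe u

variable {G : Type u} [Group G] [Finite G] {z : G} {P : Subgroup G} {V : Type*} [AddCommGroup V]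
  {π : ↥(oc z) →* Multiplicative V} {ρ : ↥(mSub z P) →* Equiv.Perm V} {q : V → ZMod 2} {B : List V}
  {S : Sys z P π ρ q B}

variable (T : Sect S)

/-- The image of the section, inside the group. -/
def comp' : Subgroup G := (T.F.nrm.subtype.comp T.kap).range

theorem comp_ok : Comp T.F (comp' T) := by
  refine ⟨?_, ?_, ?_⟩
  · rintro _ ⟨σ, rfl⟩
    exact (T.kap σ).2
  · rw [eq_bot_iff]
    rintro _ ⟨⟨σ, rfl⟩, h⟩
    have hker : T.kap σ ∈ (T.F.theta T.good).ker := by
      rw [T.F.theta_ker T.good, mem_subgroupOf]; exact h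
    rw [MonoidHom.mem_ker, T.spec] at hker
    rw [hker, map_one]
    exact one_mem _
  · refine le_antisymm (sup_le ?_ T.F.grp_le_nrm) fun n hn => ?_
    · rintro _ ⟨σ, rfl⟩
      exact (T.kap σ).2
    · have hker : (⟨n, hn⟩ : ↥T.F.nrm) * (T.kap (T.F.theta T.good ⟨n, hn⟩))⁻¹ ∈ (T.F.theta T.good).ker := by
        rw [MonoidHom.mem_ker, map_mul, map_inv, T.spec, mul_inv_cancel]
      rw [T.F.theta_ker T.good, mem_subgroupOf] at hker
      have h := mul_mem (mem_sup_right (S := comp' T) hker)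
        (mem_sup_left (T := T.F.grp) (show T.F.nrm.subtype (T.kap (T.F.theta T.good ⟨n, hn⟩)) ∈ comp' T from
          ⟨_, rfl⟩))
      simpa using h

/-- **An element of the section acts by the matrix of its permutation.** -/
theorem is_code {c : ℕ} {M : List ℕ} (hM : Compute.inM24B c = true) (hp : okPair c M = true)
    (hlt : ∀ a ∈ M, a < 2048) {σ : ↥M24} (hσ : (σ : Equiv.Perm GolayPt) = rep24.den c) :
    Is T.F (comp' T) M (T.kap σ : G) := by
  obtain ⟨hok, hmem⟩ := Compute.mem_M24_of_check hM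
  refine ⟨⟨σ, rfl⟩, hlt, ?_⟩
  simp only [okPair, List.all_eq_true] at hp
  obtain ⟨a, ha⟩ : ∃ a : G, a = (T.kap σ : G) := ⟨_, rfl⟩
  rw [← ha]
  have hn : a ∈ T.F.nrm := ha ▸ (T.kap σ).2
  have hθ : T.F.theta T.good ⟨a, hn⟩ = σ := by
    rw [show (⟨a, hn⟩ : ↥T.F.nrm) = T.kap σ from Subtype.ext ha, T.spec]
  have hpair : ∀ i < 24, ∀ j < 24, a * T.F.phi (pw i j) * a⁻¹ = T.F.phi (app M (pw i j)) := by
    intro i hi j hj
    obtain ⟨hlt1, he1⟩ := pw_spec i j
    have hσi := rep24.act_lt _ i hok hi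
    have hσj := rep24.act_lt _ j hok hj
    obtain ⟨hlt2, he2⟩ := pw_spec (rep24.act c i) (rep24.act c j)
    rw [beq_nat (hp i (List.mem_range.2 hi) j (List.mem_range.2 hj))]
    have htau := T.F.tau_apply (⟨a, hn⟩ : ↥T.F.nrm) ⟨T.F.phi (pw i j), T.F.phi_mem hlt1⟩
    have hv : ∀ {p r : ℕ}, p < 24 → r < 24 → LargeFischer.bv (LargeFischer.vp24 (Fin.ofNat 24 p) ^^^
        LargeFischer.vp24 (Fin.ofNat 24 r)) =
        LargeFischer.pt (rep24.pt p) + LargeFischer.pt (rep24.pt r) := fun {p r} hp hr => by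
      rw [LargeFischer.bv_xor, LargeFischer.pt, LargeFischer.pt, pn_pt hp, pn_pt hr]
    rw [T.F.vEquiv_phi hlt1, toAdd_ofAdd, he1, hv hi hj, T.F.perm_spec T.good] at htau
    have hperm : (T.F.perm T.good ⟨a, hn⟩ : Equiv.Perm GolayPt) = rep24.den c :=
      (congrArg Subtype.val hθ).trans hσ
    have hpt : ∀ p < 24, rep24.den c (rep24.pt p) = rep24.pt (rep24.act c p) := fun p hp =>
      rep24.act_spec _ p hok hp
    rw [hperm, hpt i hi, hpt j hj, ← hv hσi hσj, ← he2] at htau
    have h1 : T.F.vEquiv ⟨T.F.phi (pw (rep24.act c i) (rep24.act c j)), T.F.phi_mem hlt2⟩ =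
        T.F.vEquiv (T.F.nHom ⟨a, hn⟩ ⟨T.F.phi (pw i j), T.F.phi_mem hlt1⟩) := by
      rw [T.F.vEquiv_phi hlt2, htau]; rfl
    exact (congrArg Subtype.val (T.F.vEquiv.injective h1)).symm
  refine bitInd 11 (P := fun x => a * T.F.phi x * a⁻¹ = T.F.phi (app M x)) ?_ (fun x y _ _ hx hy => ?_) ?_
  · rw [app_zero, T.F.phi_zero]; group
  · rw [app_xor, T.F.phi_xor, T.F.phi_xor, ← hx, ← hy]; group
  · intro i hi
    have h := all_range pairs_ok hi
    rw [Bool.and_eq_true, List.all_eq_true] at h
    obtain ⟨hsum, hb⟩ := h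
    rw [← beq_nat hsum]
    generalize pairT.getD i [] = l at hb
    induction l with
    | nil => rw [List.foldr_nil, app_zero, T.F.phi_zero]; group
    | cons p l ih =>
      have hp' := hb p List.mem_cons_self
      rw [Bool.and_eq_true] at hp'
      have ih' := ih fun q hq => hb q (List.mem_cons_of_mem _ hq)
      rw [List.foldr_cons, show ∀ u v : ℕ, Nat.xor u v = u ^^^ v from fun _ _ => rfl, app_xor, T.F.phi_xor,
        T.F.phi_xor, ← hpair _ (blt_nat hp'.1) _ (blt_nat hp'.2), ← ih']
      group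

theorem exists_code {c : ℕ} (hM : Compute.inM24B c = true) :
    ∃ σ : ↥M24, (σ : Equiv.Perm GolayPt) = rep24.den c :=
  ⟨⟨_, (Compute.mem_M24_of_check hM).2⟩, rfl⟩

/-- The matrix of the inverse of the mover. -/
def mvM : List ℕ := [1393, 1532, 1033, 1492, 1941, 709, 1120, 78, 1216, 1344, 128]

theorem mvM_ok : okPair mvI mvM = true ∧ ∀ a ∈ mvM, a < 2048 := by decide +kernel

theorem mvM_img : (Nat.beq (app mvM 64) 1120 && Nat.beq (app mvM 5) 376 && Nat.beq (app mvM 27) 716 &&
    Nat.beq (app Lm 1120) 836 && Nat.beq (app Lm 376) 1000 && Nat.beq (app Lm 716) 1418) = true := by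
  decide +kernel

/-- The standard generators in the section, the mover of the trio and the conjugated pair. -/
theorem exists_data (hT : Pure T) : ∃ (U : Gens T.F) (d : G), U.K = comp' T ∧ d ∈ comp' T ∧
    Is T.F (comp' T) mvM d⁻¹ ∧ ¬ IsConj z (U.g 0) ∧
    (∀ t : G, (∀ k < 10, Commute t (U.g k)) →
      Commute t (d * xg T * d⁻¹) ∧ Commute t (d * ug T * d⁻¹)) ∧
    U.g 6 ∈ closure ({d * xg T * d⁻¹, d * ug T * d⁻¹} : Set G) ∧
    U.g 8 ∈ closure ({d * xg T * d⁻¹, d * ug T * d⁻¹} : Set G) := by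
  have hgen : ∀ k : Fin 10, ∃ σ : ↥M24, (σ : Equiv.Perm GolayPt) = rep24.den (genP.getD k 0) := fun k => by
    have h := all_range gens_ok k.2
    simp only [Bool.and_eq_true] at h
    exact exists_code h.1.1.1
  choose σ hσ using hgen
  let U : Gens T.F := ⟨comp' T, comp_ok T, fun k => (T.kap (σ (Fin.ofNat 10 k)) : G), fun k hk => by
    have h := all_range gens_ok hk
    simp only [Bool.and_eq_true, List.all_eq_true] at h
    exact is_code T h.1.1.1 h.1.1.2 (fun a ha => blt_nat (h.2 a ha))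
      (by rw [hσ, show ((Fin.ofNat 10 k : Fin 10) : ℕ) = k from Nat.mod_eq_of_lt hk])⟩
  have hm := move_ok
  simp only [Bool.and_eq_true] at hm
  obtain ⟨⟨⟨⟨⟨⟨hP, hI⟩, hPI⟩, hX⟩, hW⟩, hxp⟩, hwp⟩ := hm
  obtain ⟨σd, hd⟩ := exists_code hP
  obtain ⟨σx, hσx⟩ := exists_code hX
  obtain ⟨σu, hσu⟩ := exists_code hW
  have okP := (Compute.mem_M24_of_check hP).1
  have okI := (Compute.mem_M24_of_check hI).1
  have hdi : rep24.den mvI = ((σd : Equiv.Perm GolayPt))⁻¹ := by
    refine (inv_eq_of_mul_eq_one_right ?_).symm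
    rw [hd, ← rep24.den_mul _ _ okP okI, beq_nat hPI, rep24.den_one]
  have hconj : ∀ (w : J4DC.Word) (τ : ↥M24),
      (τ : Equiv.Perm GolayPt) = rep24.den (rep24.mul mvP (rep24.mul (J4M24.evalCode w) mvI)) →
      (T.kap τ : G) = (T.kap σd : G) * wd T w * ((T.kap σd : G))⁻¹ := by
    intro w τ hτ
    have hval : ((toM24 (J4DC.qW w) : ↥M24) : Equiv.Perm GolayPt) = rep24.den (J4M24.evalCode w) :=
      J4DC.toPerms_qW w
    have okw := (J4M24.evalCode_spec w).1
    have hτ' : τ = σd * toM24 (J4DC.qW w) * σd⁻¹ := by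
      refine Subtype.ext ?_
      rw [hτ, rep24.den_mul _ _ okP (rep24.ok_mul _ _ okw okI), rep24.den_mul _ _ okw okI, hdi]
      simp only [Subgroup.coe_mul, Subgroup.coe_inv, hval, hd, mul_assoc]
    rw [hτ', map_mul, map_mul, map_inv]
    rfl
  have hxg : wd T [(0, true)] = xg T := rfl
  have hug : wd T uWord = ug T := by
    have e : J4DC.qW uWord = PresentedGroup.of 1 * PresentedGroup.of 0 * PresentedGroup.of 1 *
        (PresentedGroup.of 0 * (PresentedGroup.of 1)⁻¹) ^ 2 *
        (PresentedGroup.of 0 * PresentedGroup.of 1) ^ 3 := by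
      have happ : ∀ (a : Fin 2 × Bool) (l : J4DC.Word), J4DC.qW (a :: l) = J4DC.qW [a] * J4DC.qW l :=
        fun a l => J4DC.qW_append [a] l
      have h0 : J4DC.qW [((0 : Fin 2), true)] = PresentedGroup.of 0 := rfl
      have h1 : J4DC.qW [((1 : Fin 2), true)] = PresentedGroup.of 1 := rfl
      have h1' : J4DC.qW [((1 : Fin 2), false)] = (PresentedGroup.of 1)⁻¹ := by
        rw [← h1, ← J4DC.qW_winv]; rfl
      have hn : J4DC.qW ([] : J4DC.Word) = 1 := map_one _
      rw [uWord]
      repeat rw [happ (l := _ :: _)]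
      rw [h0, h1, h1']
      simp only [pow_succ, pow_zero, one_mul, mul_assoc]
    rw [wd, e]
    simp only [map_mul, map_pow, map_inv]
    rfl
  set d : G := (T.kap σd : G) with hdd
  have ex : (T.kap σx : G) = d * xg T * d⁻¹ := hxg ▸ hconj [(0, true)] σx hσx
  have eu : (T.kap σu : G) = d * ug T * d⁻¹ := hug ▸ hconj uWord σu hσu
  refine ⟨U, d, rfl, ⟨σd, rfl⟩, ?_, ?_, ?_, ?_, ?_⟩
  · have e : d⁻¹ = (T.kap σd⁻¹ : G) := by rw [map_inv]; rfl
    rw [e]
    exact is_code T hI mvM_ok.1 mvM_ok.2 (by rw [Subgroup.coe_inv]; exact hdi.symm)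
  · have hf := fpf_ok
    simp only [Bool.and_eq_true, List.all_eq_true, Bool.not_eq_true'] at hf
    have h := all_range gens_ok (i := 0) (by norm_num)
    simp only [Bool.and_eq_true] at h
    have hok := (Compute.mem_M24_of_check h.1.1.1).1
    refine hT (σ (Fin.ofNat 10 0)) (Subtype.ext ?_) fun p hp => ?_
    · rw [Subgroup.coe_mul, hσ]
      show rep24.den (genP.getD 0 0) * rep24.den (genP.getD 0 0) = _
      rw [← rep24.den_mul _ _ hok hok, beq_nat hf.2, rep24.den_one]
      rfl
    · have := congrArg Compute.ptIdx hp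
      rw [hσ, show ((Fin.ofNat 10 0 : Fin 10) : ℕ) = 0 from rfl, Compute.ptIdx_den hok] at this
      have h0 := hf.1 _ (List.mem_range.2 (Compute.ptIdx_lt p))
      rw [this, Nat.beq_refl] at h0
      exact Bool.noConfusion h0
  · intro t ht
    have hk : ∀ {i : ℕ}, i < 168 → ∀ {j : ℕ}, j < 6 → ∀ {a : ℕ}, a < 64 → ∀ {τ : ↥M24} {c : ℕ},
        Compute.inM24B c = true →
        okPair c (J4Type.Orbits.comp (linT.getD i ([], 0, 0)).1 (J4Type.Orbits.comp (sixT.getD j []) (qm a))) = true →
        (τ : Equiv.Perm GolayPt) = rep24.den c → Commute t (T.kap τ : G) := by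
      intro i hi j hj a ha τ c hc hp hτ
      obtain ⟨g, hg, hgt⟩ := exists_h0 U (fun k _ hk => ht k hk) (e := (i, j)) hi hj
      have hq : Commute t (U.qe a) := bitInd 6 (P := fun a => Commute t (U.qe a))
        (by rw [U.qe_zero]; exact Commute.one_right t)
        (fun x y hx hy ex ey => by rw [← U.qe_mul hx hy]; exact ex.mul_right ey)
        (fun k hk => by rw [U.qe_two_pow hk]; exact ht k (by omega)) a ha
      have hM : Is T.F U.K (J4Type.Orbits.comp (linT.getD i ([], 0, 0)).1
          (J4Type.Orbits.comp (sixT.getD j []) (qm a))) (g * U.qe a) := by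
        have h := hg.mul (U.qe_is ha)
        refine ⟨h.1, ?_, fun x hx => ?_⟩
        · obtain ⟨b, -, hbi⟩ := U.lin_is hi
          exact comp_lt hbi.2.1
        · rw [h.conj hx, hm, show J4Type.Orbits.comp (sixT.getD j []) (qm a) =
            List.map (app (sixT.getD j [])) (qm a) from rfl,
            show J4Type.Orbits.comp (J4Type.Orbits.comp (linT.getD i ([], 0, 0)).1 (sixT.getD j [])) (qm a) =
              List.map (app (List.map (app (linT.getD i ([], 0, 0)).1) (sixT.getD j []))) (qm a) from rfl,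
            show J4Type.Orbits.comp (linT.getD i ([], 0, 0)).1 (List.map (app (sixT.getD j [])) (qm a)) =
              List.map (app (linT.getD i ([], 0, 0)).1) (List.map (app (sixT.getD j [])) (qm a)) from rfl,
            J4Type.Rep.app_app, J4Type.Rep.app_app, J4Type.Rep.app_app, J4Type.Rep.app_app]
      have e : (T.kap τ : G) = g * U.qe a :=
        Is.unique U.comp (is_code T hc hp hM.2.1 hτ) hM
      rw [e]
      exact hgt.mul_right hq
    exact ⟨ex ▸ hk (by norm_num) (by norm_num) (by norm_num) hX hxp hσx,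
      eu ▸ hk (by norm_num) (by norm_num) (by norm_num) hW hwp hσu⟩
  all_goals
    have hw := word_ok
    rw [Bool.and_eq_true] at hw
    have key : ∀ (l : List Bool) (τ : ↥M24), (τ : Equiv.Perm GolayPt) = rep24.den (wordCode l) →
        (T.kap τ : G) ∈ closure ({d * xg T * d⁻¹, d * ug T * d⁻¹} : Set G) := by
      intro l
      have okl : ∀ l : List Bool, rep24.Ok (wordCode l) := fun l => by
        induction l with
        | nil => exact rep24.ok_one
        | cons b l ih => exact rep24.ok_mul _ _ (by cases b <;> first | exact (Compute.mem_M24_of_check hX).1 | exact (Compute.mem_M24_of_check hW).1) ih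
      induction l with
      | nil =>
        intro τ hτ
        rw [show τ = 1 from Subtype.ext (hτ.trans rep24.den_one), map_one]
        exact one_mem _
      | cons b l ih =>
        intro τ hτ
        have okb : rep24.Ok (cond b cuP cxP) := by
          cases b
          exacts [(Compute.mem_M24_of_check hX).1, (Compute.mem_M24_of_check hW).1]
        have hτ' : τ = cond b σu σx * ((cond b σu σx)⁻¹ * τ) := by group
        rw [hτ', map_mul, Subgroup.coe_mul]
        refine mul_mem ?_ (ih _ ?_)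
        · cases b
          · exact subset_closure (Or.inl ex)
          · exact subset_closure (Or.inr eu)
        · rw [Subgroup.coe_mul, Subgroup.coe_inv, hτ, show wordCode (b :: l) =
            rep24.mul (cond b cuP cxP) (wordCode l) from rfl, rep24.den_mul _ _ okb (okl l)]
          cases b
          · rw [cond_false, cond_false, hσx, inv_mul_cancel_left]
          · rw [cond_true, cond_true, hσu, inv_mul_cancel_left]
  · exact key _ _ ((hσ (Fin.ofNat 10 6)).trans (by rw [beq_nat hw.1]; rfl))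
  · exact key _ _ ((hσ (Fin.ofNat 10 8)).trans (by rw [beq_nat hw.2]; rfl))

/-- The conjugates of a candidate fix the generators of orders seven and three. -/
theorem fix_conj_mem {d s a : G} (hx : Commute s (xg T)) (hu : Commute s (ug T))
    (ha : a ∈ closure ({d * xg T * d⁻¹, d * ug T * d⁻¹} : Set G)) : Commute (d * s * d⁻¹) a := by
  have hle : closure ({d * xg T * d⁻¹, d * ug T * d⁻¹} : Set G) ≤ centralizer ({d * s * d⁻¹} : Set G) := by
    rw [closure_le]
    rintro _ (rfl | rfl)
    · exact mem_centralizer_singleton_iff.2 (hx.symm.map (MulAut.conj d).toMonoidHom).eq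
    · exact mem_centralizer_singleton_iff.2 (hu.symm.map (MulAut.conj d).toMonoidHom).eq
  exact (show Commute a (d * s * d⁻¹) from mem_centralizer_singleton_iff.1 (hle ha)).symm

/-- **The third generator exists**, and it is conjugate to `z`. -/
theorem exists_centre' (hT : Pure T) :
    ∃ t, IsCentre T t ∧ IsConj z t ∧ ∀ s, IsCentre T s → s = t := by
  obtain ⟨U, d, -, -, -, hp, hc, h6, h8⟩ := exists_data T hT
  obtain ⟨t, ht1, ht2, htz, hcz, hnn, htk, huniq⟩ := exists_trio_centre U T.good hp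
  obtain ⟨hx, hu⟩ := hc t htk
  have back : ∀ {a : G}, Commute t (d * a * d⁻¹) → Commute (d⁻¹ * t * d) a := fun {a} h => by
    have := h.map (MulAut.conj d⁻¹).toMonoidHom
    simp only [MulEquiv.coe_toMonoidHom, MulAut.conj_apply, inv_inv] at this
    rwa [show d⁻¹ * (d * a * d⁻¹) * d = a by group] at this
  refine ⟨d⁻¹ * t * d, ⟨fun h => ht1 ?_, ?_, back hx, back hu⟩,
    htz.trans (isConj_iff.2 ⟨d⁻¹, by rw [inv_inv]⟩), fun s hs => ?_⟩
  · rw [show t = d * (d⁻¹ * t * d) * d⁻¹ by group, h]; group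
  · rw [show d⁻¹ * t * d * (d⁻¹ * t * d) = d⁻¹ * (t * t) * d by group, ht2]; group
  · have e := huniq (d * s * d⁻¹)
      (by rw [show d * s * d⁻¹ * (d * s * d⁻¹) = d * (s * s) * d⁻¹ by group, hs.sq]; group)
      (fun h => hs.ne_one (conj_eq_one_iff.1 h))
      (fix_conj_mem T hs.comm_x hs.comm_u h6) (fix_conj_mem T hs.comm_x hs.comm_u h8)
    rw [← e]; group

/-- **Existence.** -/
theorem exists_centre (hT : Pure T) : ∃ t, IsCentre T t := by
  obtain ⟨t, ht, -, -⟩ := exists_centre' T hT
  exact ⟨t, ht⟩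

/-- **Uniqueness.** -/
theorem centre_unique (hT : Pure T) {s t : G} (hs : IsCentre T s) (ht : IsCentre T t) : s = t := by
  obtain ⟨t₀, -, -, h⟩ := exists_centre' T hT
  rw [h s hs, h t ht]

/-- The third generator is conjugate to `z`. -/
theorem centre_isConj (hT : Pure T) {t : G} (ht : IsCentre T t) : IsConj z t := by
  obtain ⟨t₀, -, h₀, h⟩ := exists_centre' T hT
  rw [h t ht]; exact h₀

/-- The third generator in the standard position of its trio: after conjugation inside the section it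
centralises the centre of the subgroup of order `2 ^ 15`, does not normalise the elementary group, and
centralises the ten generators. -/
theorem exists_centre_frame (hT : Pure T) {t : G} (ht : IsCentre T t) :
    ∃ (U : Gens T.F) (d : G), U.K = comp' T ∧ d ∈ comp' T ∧ d * t * d⁻¹ ∈ cz T.F ∧
      d * t * d⁻¹ ∉ T.F.nrm ∧ IsConj z (d * t * d⁻¹) ∧ Is T.F (comp' T) mvM d⁻¹ ∧
      ∀ k < 10, Commute (d * t * d⁻¹) (U.g k) := by
  obtain ⟨U, d, hK, hd, hdi, hp, -, h6, h8⟩ := exists_data T hT
  obtain ⟨t₀, ht1, ht2, htz, hcz, hnn, htk, huniq⟩ := exists_trio_centre U T.good hp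
  have e : d * t * d⁻¹ = t₀ := huniq (d * t * d⁻¹)
    (by rw [show d * t * d⁻¹ * (d * t * d⁻¹) = d * (t * t) * d⁻¹ by group, ht.sq]; group)
    (fun h => ht.ne_one (conj_eq_one_iff.1 h))
    (fix_conj_mem T ht.comm_x ht.comm_u h6) (fix_conj_mem T ht.comm_x ht.comm_u h8)
  exact ⟨U, d, hK, hd, by rw [e]; exact hcz, by rw [e]; exact hnn, by rw [e]; exact htz, hdi,
    by rw [e]; exact htk⟩

/-- **The third generator centralises the seven sextet vectors of its trio**: three generators, as codes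
of the elementary group. -/
theorem centre_comm_phi (hT : Pure T) {t : G} (ht : IsCentre T t) {x : ℕ} (hx : x ∈ [1120, 376, 716]) :
    Commute t (T.F.phi x) := by
  obtain ⟨U, d, -, -, hcz, -, -, hdi, -⟩ := exists_centre_frame T hT ht
  have h := mvM_img
  simp only [Bool.and_eq_true] at h
  obtain ⟨a, ha, e⟩ : ∃ a ∈ zT, app mvM a = x := by
    simp only [List.mem_cons, List.not_mem_nil, or_false] at hx
    rcases hx with rfl | rfl | rfl
    exacts [⟨64, by decide, beq_nat h.1.1.1.1.1⟩, ⟨5, by decide, beq_nat h.1.1.1.1.2⟩,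
      ⟨27, by decide, beq_nat h.1.1.1.2⟩]
  have hc := (cz_commute T.F hcz ha).map (MulAut.conj d⁻¹).toMonoidHom
  simp only [MulEquiv.coe_toMonoidHom, MulAut.conj_apply] at hc
  rw [hdi.conj (zT_lt ha), e] at hc
  rwa [show d⁻¹ * (d * t * d⁻¹) * d⁻¹⁻¹ = t by group] at hc

/-- The same, as vectors. -/
theorem centre_comm_sextet (hT : Pure T) {t : G} (ht : IsCentre T t) {v : ℕ} (hv : v ∈ [836, 1000, 1418]) :
    Commute t (wg T.F (LargeFischer.bv v)) := by
  have h := mvM_img
  simp only [Bool.and_eq_true] at h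
  obtain ⟨x, hx, e⟩ : ∃ x ∈ [1120, 376, 716], app Lm x = v := by
    simp only [List.mem_cons, List.not_mem_nil, or_false] at hv
    rcases hv with rfl | rfl | rfl
    exacts [⟨1120, by simp, beq_nat h.1.1.2⟩, ⟨376, by simp, beq_nat h.1.2⟩, ⟨716, by simp, beq_nat h.2⟩]
  have hlt : x < 2048 := by
    simp only [List.mem_cons, List.not_mem_nil, or_false] at hx
    omega
  rw [← e, wg_phi T.F hlt]
  exact centre_comm_phi T hT ht hx

end Cfsg.Agent.J4Uniq
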