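import Cfsg.Agent.J4Uniq.Base
import Cfsg.Agent.J4Type.Order.Main
import Cfsg.Agent.J4DC.Index
import Cfsg.Prelude.Def_Spor_J4

/-!
# Uniqueness of J4: the relations give the isomorphism

A group of Janko-four type with a pure section and a centre satisfying the two long relations is
the image of the presented group, hence isomorphic to it by simplicity and equality of orders.
-/

set_option autoImplicit false
set_option maxRecDepth 100000

open Cfsg Subgroup

namespace Cfsg.Agent.J4Uniq

open LargeExtra (oc)
open J4Type (mSub)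
open J4Type.V11 TenLocal

local notation "J" => Cfsg.Spor.J4

/-- A relation between the two generators of the presented J4 holds in the presented M24. -/
theorem rel_of_extra (w : FreeGroup (Fin 2))
    (h : FreeGroup.map J4M24.jGen w ∈ Spor.J4.extra) :
    PresentedGroup.mk ((CosetCert.wordRels CosetCert.J4M24Q.relWords)) w = 1 := by
  refine J4DC.iota24_injective ?_
  rw [map_one]
  have hcomp : J4DC.iota24.comp (PresentedGroup.mk (CosetCert.wordRels CosetCert.J4M24Q.relWords)) =
      (PresentedGroup.mk (Spor.coxRelators Spor.J4.edges ∪ {r | r ∈ Spor.J4.extra})).comp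
        (FreeGroup.map J4M24.jGen) :=
    FreeGroup.ext_hom _ _ fun b => J4DC.iota24_of b
  exact (DFunLike.congr_fun hcomp w).trans (PresentedGroup.one_of_mem (Or.inr h))

variable {G : Type*} [Group G] [Finite G] {z : G} {P : Subgroup G} {V : Type*} [AddCommGroup V]
  {π : ↥(oc z) →* Multiplicative V} {ρ : ↥(mSub z P) →* Equiv.Perm V} {q : V → ZMod 2} {B : List V}
  {S : Sys z P π ρ q B}

/-- The values of the three generators. -/
noncomputable def genMap (T : Sect S) (t : G) : Spor.J4.Gen → G
  | .x => xg T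
  | .y => yg T
  | .t => t

theorem lift_map (T : Sect S) (t : G) (w : FreeGroup (Fin 2)) :
    FreeGroup.lift (genMap T t) (FreeGroup.map J4M24.jGen w) =
      qhom T (PresentedGroup.mk (CosetCert.wordRels CosetCert.J4M24Q.relWords) w) := by
  have hcomp : (FreeGroup.lift (genMap T t)).comp (FreeGroup.map J4M24.jGen) =
      (qhom T).comp (PresentedGroup.mk (CosetCert.wordRels CosetCert.J4M24Q.relWords)) :=
    FreeGroup.ext_hom _ _ fun b => by
      fin_cases b <;> simp [J4M24.jGen, genMap, xg, yg] <;> rfl
  exact DFunLike.congr_fun hcomp w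

theorem rels_hold (T : Sect S) {t : G} (ht : IsCentre T t) (hA : RelA T t) (hB : RelB T t) :
    ∀ r ∈ Spor.coxRelators Spor.J4.edges ∪ {r | r ∈ Spor.J4.extra},
      FreeGroup.lift (genMap T t) r = 1 := by
  have key : ∀ (r : FreeGroup Spor.J4.Gen) (w : FreeGroup (Fin 2)), r ∈ Spor.J4.extra →
      r = FreeGroup.map J4M24.jGen w → FreeGroup.lift (genMap T t) r = 1 := by
    rintro _ w h rfl
    rw [lift_map, rel_of_extra w h, map_one]
  let a : FreeGroup (Fin 2) := FreeGroup.of 0
  let b : FreeGroup (Fin 2) := FreeGroup.of 1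
  rintro r (⟨u, hu, -⟩ | hr)
  · simp [Spor.coxNodes, Spor.J4.edges] at hu
  have hr' : r ∈ Spor.J4.extra := hr
  simp only [Spor.J4.extra, List.mem_cons, List.not_mem_nil, or_false] at hr
  rcases hr with h | h | h | h | h | h | h | h | h | h | h | h
  · exact key r (a ^ 2) hr' (by rw [h]; simp [a, J4M24.jGen])
  · exact key r (b ^ 3) hr' (by rw [h]; simp [b, J4M24.jGen])
  · exact key r ((a * b) ^ 23) hr' (by rw [h]; simp [a, b, J4M24.jGen])
  · exact key r ((a⁻¹ * b⁻¹ * a * b) ^ 12) hr' (by rw [h]; simp [a, b, J4M24.jGen])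
  · exact key r ((a⁻¹ * (b * a * b)⁻¹ * a * (b * a * b)) ^ 5) hr'
      (by rw [h]; simp [a, b, J4M24.jGen])
  · exact key r ((a * b * ((a * b * a * (b⁻¹)) ^ 3)) ^ 4) hr'
      (by rw [h]; simp [a, b, J4M24.jGen])
  · exact key r (((a * b * a * b * a * (b⁻¹)) ^ 3) * ((a * b * a * (b⁻¹) * a * (b⁻¹)) ^ 3)) hr'
      (by rw [h]; simp [a, b, J4M24.jGen])
  · subst h
    simp [genMap, sq, ht.sq]
  · subst h
    simp only [map_mul, map_inv, map_pow, FreeGroup.lift_apply_of, genMap]
    have hc : Commute t (ug T) := ht.comm_u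
    unfold ug at hc
    rw [mul_assoc, hc.eq]
    group
  · subst h
    simp only [map_mul, map_inv, FreeGroup.lift_apply_of, genMap]
    rw [mul_assoc, ht.comm_x.eq]
    group
  · subst h
    simpa [genMap, RelA, mul_assoc] using hA
  · subst h
    simpa [genMap, RelB, mul_assoc] using hB

/-- **A centre satisfying the two long relations gives the isomorphism with the presented J4.** -/
theorem iso_of_rels [IsSimpleGroup G] (hG : ¬ IsMulCommutative G) (hJ : IsOfJankoFourType G)
    (T : Sect S) (t : G) (ht : IsCentre T t) (hA : RelA T t) (hB : RelB T t) :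
    Cfsg.Spor.IsoJ4 G := by
  let f : J →* G := PresentedGroup.toGroup (rels_hold T ht hA hB)
  obtain ⟨hs, hc⟩ : IsJ4 J := J4DC.isJ4 J4DC.index_iota
  have hinj : Function.Injective f := by
    rw [← MonoidHom.ker_eq_bot_iff]
    refine f.normal_ker.eq_bot_or_eq_top.resolve_right fun htop => ht.ne_one ?_
    have h : (PresentedGroup.of Spor.J4.Gen.t : J) ∈ f.ker := htop ▸ mem_top _
    rw [MonoidHom.mem_ker] at h
    rw [← show f (PresentedGroup.of Spor.J4.Gen.t) = t from PresentedGroup.toGroup.of _]
    exact h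
  have hbij : Function.Bijective f := (Nat.bijective_iff_injective_and_card f).2
    ⟨hinj, by rw [hc, J4Type.Order.card_of_type hG hJ]⟩
  exact ⟨(MulEquiv.ofBijective f hbij).symm⟩

end Cfsg.Agent.J4Uniq
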