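import Cfsg.Agent.J4Uniq.RA.Moved

/-!
# The first long relator

The cube is the product of the three conjugates of the third generator belonging to the trios of a line
of the fifteen trios through an octad; it acts trivially on the standard group, so it is the common
fixed vector of the line or trivial, and the first case contradicts associativity in a plane.
-/

set_option autoImplicit false
set_option maxRecDepth 20000

open Cfsg Subgroup

namespace Cfsg.Agent.J4Uniq

open LargeExtra (oc)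
open LargeFischer (W11 bv)
open J4Type (mSub)
open J4Type.V11
open Compute (rep24 inM24B mem_M24_of_check allBelow_eq_true)
open TenLocal
open TenLocal.Oct (uOf mOf rC)

variable {G : Type*} [Group G] [Finite G] {z : G} {P : Subgroup G} {V : Type*}
  [AddCommGroup V] {π : ↥(oc z) →* Multiplicative V} {ρ : ↥(mSub z P) →* Equiv.Perm V}
  {q : V → ZMod 2} {B : List V} {S : Sys z P π ρ q B} (T : Sect S) {t : G}

theorem yC_facts (ht : IsCentre T t) :
    inM24B RA.yC = true ∧ kg T RA.yC * tp T t 0 * (kg T RA.yC)⁻¹ = tp T t 1 ∧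
    kg T RA.yC * tp T t 1 * (kg T RA.yC)⁻¹ = tp T t 2 ∧
    kg T RA.yC * tp T t 2 * (kg T RA.yC)⁻¹ = tp T t 0 ∧
    kg T RA.yC * T.sEl 49 * (kg T RA.yC)⁻¹ = T.sEl 49 := by
  have hb := RA.base_ok
  simp only [Bool.and_eq_true] at hb
  obtain ⟨⟨⟨⟨⟨⟨⟨-, hmat⟩, -⟩, -⟩, h01⟩, h12⟩, h20⟩, h49⟩ := hb
  have hy : inM24B RA.yC = true := by
    simp only [RA.matB, Bool.and_eq_true] at hmat; exact hmat.1.1
  refine ⟨hy, tp_map T ht hy (by norm_num) (by norm_num) h01, tp_map T ht hy (by norm_num) (by norm_num) h12,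
    tp_map T ht hy (by norm_num) (by norm_num) h20, ?_⟩
  rw [(kg_mat T hmat (n := 49) (by norm_num)).2, Nat.eq_of_beq_eq_true h49]

theorem entry_facts (ht : IsCentre T t) {pts : List ℕ} {e : ℕ × List ℕ × List ℕ}
    (hpts : ∀ p ∈ pts, p < 6) (h : RA.entryB pts e = true) :
    (∀ n < 1024, mapp e.2.1 n < 1024 ∧ kg T e.1 * T.sEl n * (kg T e.1)⁻¹ = T.sEl (mapp e.2.1 n)) ∧
      ∀ p ∈ pts, Commute (kg T e.1) (tp T t p) := by
  simp only [RA.entryB, Bool.and_eq_true] at h
  obtain ⟨hmat, hp⟩ := h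
  refine ⟨fun n hn => kg_mat T hmat hn, fun p hp' => ?_⟩
  obtain ⟨k, hk, rfl⟩ := List.getElem_of_mem hp'
  have hs : inM24B e.1 = true := by
    simp only [RA.matB, Bool.and_eq_true] at hmat; exact hmat.1.1
  have := allBelow_eq_true.1 hp k hk
  rw [List.getD_eq_getElem _ _ hk] at this
  exact mul_inv_eq_iff_eq_mul.1 (tp_map T ht hs (hpts _ hp') (hpts _ hp') this)

/-- The product of the three conjugates on the line is the fixed vector of the line or trivial. -/
theorem line_cases (hT : Pure T)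
    (ht : IsCentre T t) :
    (tp T t 1 * tp T t 2 * tp T t 0 = 1 ∨ tp T t 1 * tp T t 2 * tp T t 0 = T.sEl 49) ∧
      ∀ i < 3, Commute (tp T t i) (T.sEl 49) := by
  obtain ⟨f₀, hf₀, hz⟩ := tame_zero T hT ht
  obtain ⟨hy, e01, e12, e20, ey49⟩ := yC_facts T ht
  obtain ⟨f₁, hf₁, hl₁⟩ := hf₀.conj_y
  rw [e01] at hf₁
  obtain ⟨f₂, hf₂, hl₂⟩ := hf₁.conj_y
  rw [e12] at hf₂
  obtain ⟨f₀', hf₀', hl₀⟩ := hf₂.conj_y
  rw [e20] at hf₀'
  have hsame : ∀ n < 1024, f₀' n = f₀ n := by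
    intro n hn
    have e := (hf₀'.conj n hn).symm.trans (hf₀.conj n hn)
    have e' := T.sEl_inj (xor_lt' hn (hf₀'.lt n hn)) (xor_lt' hn (hf₀.lt n hn)) e
    have := congrArg (fun v => n ^^^ v) e'
    simpa only [← Nat.xor_assoc, Nat.xor_self, Nat.zero_xor] using this
  have h49 : ∀ i < 3, Commute (tp T t i) (T.sEl 49) := by
    have c0 := hz 49 (by decide)
    have c1 : Commute (tp T t 1) (T.sEl 49) := by
      rw [← e01, ← ey49]; exact c0.map (MulAut.conj (kg T RA.yC)).toMonoidHom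
    have c2 : Commute (tp T t 2) (T.sEl 49) := by
      rw [← e12, ← ey49]; exact c1.map (MulAut.conj (kg T RA.yC)).toMonoidHom
    intro i hi
    interval_cases i
    exacts [c0, c1, c2]
  refine ⟨?_, h49⟩
  set g := tp T t 1 * tp T t 2 * tp T t 0 with hg
  set ψ : ℕ → ℕ := fun n => f₀ n ^^^ (f₂ n ^^^ f₁ n) with hψdef
  have hψ : Tame T g ψ := by
    have := (hf₁.mul hf₂).mul hf₀
    exact this
  have hb := RA.base_ok
  simp only [Bool.and_eq_true] at hb
  have hmaty : RA.matB RA.yC RA.yL = true := hb.1.1.1.1.1.1.2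
  have hyψ : ∀ n < 1024, ψ (mapp RA.yL n) = mapp RA.yL (ψ n) := by
    intro n hn
    have hn' := (kg_mat T hmaty hn).1
    show f₀ _ ^^^ (f₂ _ ^^^ f₁ _) = mapp RA.yL (f₀ n ^^^ (f₂ n ^^^ f₁ n))
    rw [mapp_xor, mapp_xor, hl₁ n hn, hl₂ n hn, ← hsame _ hn', hl₀ n hn]
    simp [Nat.xor_assoc, Nat.xor_comm]
  obtain ⟨hdL, hdc⟩ := entry_facts T ht (pts := [0, 1, 2]) (by simp) RA.dC_ok
  have hdg : Commute (kg T RA.dC.1) g := by
    rw [hg]
    exact ((hdc 1 (by simp)).mul_right (hdc 2 (by simp))).mul_right (hdc 0 (by simp))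
  have hdψ : ∀ n < 1024, ψ (mapp RA.dC.2.1 n) = mapp RA.dC.2.1 (ψ n) := by
    intro n hn
    obtain ⟨hn', en⟩ := hdL n hn
    have e1 := hψ.conj _ hn'
    rw [← en] at e1
    have e2 : g * (kg T RA.dC.1 * T.sEl n * (kg T RA.dC.1)⁻¹) * g⁻¹ =
        kg T RA.dC.1 * (g * T.sEl n * g⁻¹) * (kg T RA.dC.1)⁻¹ := by
      have c := hdg.symm.eq
      calc g * (kg T RA.dC.1 * T.sEl n * (kg T RA.dC.1)⁻¹) * g⁻¹
          = g * kg T RA.dC.1 * T.sEl n * (g * kg T RA.dC.1)⁻¹ := by group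
        _ = kg T RA.dC.1 * g * T.sEl n * (kg T RA.dC.1 * g)⁻¹ := by rw [c]
        _ = _ := by group
    rw [e2, hψ.conj n hn, (hdL _ (xor_lt' hn (hψ.lt n hn))).2] at e1
    have e3 := T.sEl_inj (hdL _ (xor_lt' hn (hψ.lt n hn))).1 (xor_lt' hn' (hψ.lt _ hn')) e1
    rw [mapp_xor] at e3
    have := congrArg (fun v => mapp RA.dC.2.1 n ^^^ v) e3
    simpa only [← Nat.xor_assoc, Nat.xor_self, Nat.zero_xor, eq_comm] using this
  have hψ0 : ψ 0 = 0 := hψ.zero (by norm_num) (mapp_zero _)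
  have hbas : ∀ b ∈ RA.psiB, b < 1024 ∧ ψ b = 0 := by
    intro b hb'
    have h := List.all_eq_true.1 RA.psi_ok b hb'
    simp only [Bool.and_eq_true, Bool.or_eq_true, Nat.blt_eq] at h
    obtain ⟨hlt, h⟩ := h
    refine ⟨hlt, ?_⟩
    by_contra hne
    have hp := allBelow_eq_true.1 RA.psi_trans _ (hψ.lt b hlt)
    rw [hψ.tr b hlt] at hp
    simp only [Nat.beq_refl, Bool.not_true, Bool.false_or, Bool.or_eq_true, Bool.and_eq_true,
      Bool.not_eq_true'] at hp
    rcases hp with hp | ⟨hp1, hp2⟩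
    · exact hne (Nat.eq_of_beq_eq_true hp)
    rcases h with (h | h) | h
    · simp only [RA.fixBoth, Bool.and_eq_true] at h
      have : RA.fixBoth (ψ b) = true := by
        simp only [RA.fixBoth, Bool.and_eq_true]
        rw [← hyψ b hlt, ← hdψ b hlt, Nat.eq_of_beq_eq_true h.1, Nat.eq_of_beq_eq_true h.2]
        exact ⟨Nat.beq_refl _, Nat.beq_refl _⟩
      rw [this] at hp1; exact Bool.noConfusion hp1
    · simp only [RA.nilBoth, Bool.and_eq_true] at h
      have key : ∀ L : List ℕ, (∀ n < 1024, mapp L n < 1024) → (∀ n < 1024, ψ (mapp L n) = mapp L (ψ n)) →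
          Nat.beq (Nat.xor (Nat.xor b (mapp L b)) (mapp L (mapp L b))) 0 = true →
          Nat.beq (Nat.xor (Nat.xor (ψ b) (mapp L (ψ b))) (mapp L (mapp L (ψ b)))) 0 = true := by
        intro L hlL hcL e
        have l1 := hlL b hlt
        have : ψ (b ^^^ mapp L b ^^^ mapp L (mapp L b)) = 0 := by
          rw [show b ^^^ mapp L b ^^^ mapp L (mapp L b) = 0 from Nat.eq_of_beq_eq_true e, hψ0]
        rw [hψ.add (xor_lt' hlt l1) (hlL _ l1), hψ.add hlt l1, hcL _ l1, hcL _ hlt] at this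
        show Nat.beq (ψ b ^^^ mapp L (ψ b) ^^^ mapp L (mapp L (ψ b))) 0 = true
        rw [this]; exact Nat.beq_refl _
      have : RA.nilBoth (ψ b) = true := by
        simp only [RA.nilBoth, Bool.and_eq_true]
        exact ⟨key _ (fun n hn => (kg_mat T hmaty hn).1) hyψ h.1,
          key _ (fun n hn => (hdL n hn).1) hdψ h.2⟩
      rw [this] at hp2; exact Bool.noConfusion hp2
    · exact hne (hψ.zero hlt (Nat.eq_of_beq_eq_true h))
  have hspan : ∀ (L : List ℕ), (∀ b ∈ L, b < 1024 ∧ ψ b = 0) → ∀ c, mapp L c < 1024 ∧ ψ (mapp L c) = 0 := by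
    intro L
    induction L with
    | nil => intro _ c; exact ⟨(show (0 : ℕ) < 1024 by norm_num), hψ0⟩
    | cons b L ih =>
      intro hL c
      obtain ⟨h1, h2⟩ := ih (fun a ha => hL a (List.mem_cons_of_mem _ ha)) (c >>> 1)
      rw [mapp_cons]
      split_ifs
      · obtain ⟨hb1, hb2⟩ := hL b List.mem_cons_self
        exact ⟨xor_lt' hb1 h1, by rw [hψ.add hb1 h1, hb2, h2, Nat.xor_self]⟩
      · exact ⟨h1, h2⟩
  have hzero : ∀ n < 1024, ψ n = 0 := by
    refine bitInd (P := fun n => ψ n = 0) 10 hψ0 (fun x y hx hy ex ey => by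
      rw [hψ.add hx hy, ex, ey, Nat.xor_self]) fun i hi => ?_
    rw [← Nat.eq_of_beq_eq_true (allBelow_eq_true.1 RA.psi_span i hi)]
    exact (hspan _ hbas _).2
  obtain ⟨e, he, eg⟩ : g ∈ T.std := T.std_self (mem_centralizer_iff.2 (by
    rintro _ ⟨n, hn, rfl⟩
    have := hψ.conj n hn
    rw [hzero n hn, Nat.xor_zero] at this
    exact (mul_inv_eq_iff_eq_mul.1 this).symm))
  have hchk := allBelow_eq_true.1 RA.eC_fix e he
  rw [Bool.or_eq_true, Bool.not_eq_true'] at hchk
  rcases hchk with h | h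
  · rw [← Bool.not_eq_true, List.all_eq_true] at h
    refine absurd (fun f hf => ?_) h
    obtain ⟨hL, hc⟩ := entry_facts T ht (pts := [0, 1, 2]) (by simp) (List.all_eq_true.1 RA.eC_ok f hf)
    have hcg : Commute (kg T f.1) g := by
      rw [hg]; exact ((hc 1 (by simp)).mul_right (hc 2 (by simp))).mul_right (hc 0 (by simp))
    rw [eg] at hcg
    have := (hL e he).2
    rw [hcg.eq, mul_inv_cancel_right] at this
    rw [← T.sEl_inj he (hL e he).1 this]
    exact Nat.beq_refl _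
  · rw [Bool.or_eq_true] at h
    rcases h with h | h
    · left; rw [eg, Nat.eq_of_beq_eq_true h, T.sEl_zero]
    · right; rw [eg, Nat.eq_of_beq_eq_true h]

omit [Finite G] in
/-- The consequences of a nontrivial product for the three orders. -/
theorem orders {a b c s : G} (ha : a * a = 1) (hb : b * b = 1) (hc : c * c = 1)
    (cb : Commute b s) (cc : Commute c s) (ca : Commute a s) (hs : s * s = 1) (h : b * c * a = s) :
    b * c = s * a ∧ c * a = s * b ∧ a * b = s * c ∧ c * b = s * a ∧ a * c = s * b ∧ b * a = s * c := by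
  have h1 : b * c = s * a := by rw [← h, mul_assoc (b * c), ha, mul_one]
  have h2 : c * a = s * b := by
    calc c * a = b * b * (c * a) := by rw [hb, one_mul]
      _ = b * (b * c * a) := by group
      _ = b * s := by rw [h]
      _ = s * b := cb.eq
  have h3 : a * b = s * c := by
    have : a = c * (s * b) := by rw [← h2, ← mul_assoc, hc, one_mul]
    calc a * b = c * (s * b) * b := by rw [← this]
      _ = c * s * (b * b) := by group
      _ = s * c := by rw [hb, mul_one, cc.eq]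
  have hinv : ∀ {x y w : G}, x * x = 1 → y * y = 1 → w * w = 1 → Commute w s → x * y = s * w →
      y * x = s * w := by
    intro x y w hx hy hw cw e
    calc y * x = (x * y)⁻¹ := by
          rw [mul_inv_rev, inv_eq_of_mul_eq_one_right hx, inv_eq_of_mul_eq_one_right hy]
      _ = (s * w)⁻¹ := by rw [e]
      _ = w * s := by rw [mul_inv_rev, inv_eq_of_mul_eq_one_right hs, inv_eq_of_mul_eq_one_right hw]
      _ = s * w := cw.eq
  exact ⟨h1, h2, h3, hinv hb hc ha ca h1, hinv hc ha hb cb h2, hinv ha hb hc cc h3⟩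

/-- The product of the three conjugates on the line is trivial. -/
theorem line_one (hT : Pure T)
    (ht : IsCentre T t) : tp T t 1 * tp T t 2 * tp T t 0 = 1 := by
  obtain ⟨hc, h49⟩ := line_cases T hT ht
  refine hc.resolve_right fun h => ?_
  exfalso
  obtain ⟨f₀, hf₀, -⟩ := tame_zero T hT ht
  obtain ⟨o1, o2, o3, o4, o5, o6⟩ := orders (tp_sq T ht 0) (tp_sq T ht 1) (tp_sq T ht 2)
    (h49 1 (by norm_num)) (h49 2 (by norm_num)) (h49 0 (by norm_num)) (T.sEl_sq (by norm_num)) h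
  -- the other three lines
  have hline : ∀ e ∈ RA.lineC, ∀ i j k : ℕ, i < 3 → j < 3 → k < 3 →
      tp T t i * tp T t j = T.sEl 49 * tp T t k → ∀ x y w : ℕ, x < 3 → y < 3 → w < 3 →
      e.2.2.1.getD x 0 = i → e.2.2.1.getD y 0 = j → e.2.2.1.getD w 0 = k →
      e.2.2.2.1.getD x 0 < 6 → e.2.2.2.1.getD y 0 < 6 → e.2.2.2.1.getD w 0 < 6 →
      e.2.1 < 1024 ∧ tp T t (e.2.2.2.1.getD x 0) * tp T t (e.2.2.2.1.getD y 0) =
        T.sEl e.2.1 * tp T t (e.2.2.2.1.getD w 0) := by
    intro e he i j k hi hj hk hrel x y w hx hy hw ex ey ew hx' hy' hw'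
    have hok := List.all_eq_true.1 RA.lineC_ok e he
    simp only [RA.lineB, Bool.and_eq_true] at hok
    obtain ⟨⟨hs, hmv⟩, hmaps⟩ := hok
    obtain ⟨hlt, hz'⟩ := kg_move T hs (by norm_num) hmv
    have mv : ∀ u, u < 3 → e.2.2.1.getD u 0 < 6 → e.2.2.2.1.getD u 0 < 6 →
        kg T e.1 * tp T t (e.2.2.1.getD u 0) * (kg T e.1)⁻¹ = tp T t (e.2.2.2.1.getD u 0) :=
      fun u hu h1 h2 => tp_map T ht hs h1 h2 (allBelow_eq_true.1 hmaps u hu)
    refine ⟨hlt, ?_⟩
    rw [← mv x hx (by omega) hx', ← mv y hy (by omega) hy', ← mv w hw (by omega) hw', ← hz', ex, ey, ew]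
    calc kg T e.1 * tp T t i * (kg T e.1)⁻¹ * (kg T e.1 * tp T t j * (kg T e.1)⁻¹)
        = kg T e.1 * (tp T t i * tp T t j) * (kg T e.1)⁻¹ := by group
      _ = _ := by rw [hrel]; group
  have hshape := RA.lineC_shape
  obtain ⟨l2, l3, l4, hl⟩ : ∃ l2 l3 l4, RA.lineC = [l2, l3, l4] := by
    have hlen : RA.lineC.length = 3 := by simpa using congrArg List.length hshape
    match hL : RA.lineC, hlen with
    | [a, b, c], _ => exact ⟨a, b, c, rfl⟩
  rw [hl] at hshape
  simp only [List.map_cons, List.map_nil, List.cons.injEq, and_true, Prod.mk.injEq] at hshape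
  obtain ⟨⟨z2, p2, q2⟩, ⟨z3, p3, q3⟩, ⟨z4, p4, q4⟩⟩ := hshape
  -- L2: t₂ t₃ = z t₅
  have e2 := (hline l2 (by rw [hl]; simp) 2 1 0 (by norm_num) (by norm_num) (by norm_num) o4 0 1 2
    (by norm_num) (by norm_num) (by norm_num) (by rw [p2]; rfl) (by rw [p2]; rfl) (by rw [p2]; rfl)
    (by rw [q2]; simp) (by rw [q2]; simp) (by rw [q2]; simp)).2
  -- L3: t₁ t₃ = z t₄
  have e3 := (hline l3 (by rw [hl]; simp) 2 0 1 (by norm_num) (by norm_num) (by norm_num) o2 0 1 2
    (by norm_num) (by norm_num) (by norm_num) (by rw [p3]; rfl) (by rw [p3]; rfl) (by rw [p3]; rfl)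
    (by rw [q3]; simp) (by rw [q3]; simp) (by rw [q3]; simp)).2
  -- L4: t₀ t₄ = z t₅
  have e4 := (hline l4 (by rw [hl]; simp) 0 2 1 (by norm_num) (by norm_num) (by norm_num) o5 0 1 2
    (by norm_num) (by norm_num) (by norm_num) (by rw [p4]; rfl) (by rw [p4]; rfl) (by rw [p4]; rfl)
    (by rw [q4]; simp) (by rw [q4]; simp) (by rw [q4]; simp)).2
  rw [z2, q2] at e2
  rw [z3, q3] at e3
  rw [z4, q4] at e4
  simp only [List.getD_cons_zero, List.getD_cons_succ] at e2 e3 e4
  -- associativity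
  set r := f₀ 32
  have h32 := hf₀.conj 32 (by norm_num)
  have hrlt : r < 1024 := hf₀.lt 32 (by norm_num)
  have hA : tp T t 0 * tp T t 1 * tp T t 3 = T.sEl (49 ^^^ 48) * tp T t 5 := by
    rw [o3, mul_assoc, e2, ← mul_assoc, T.sEl_mul (by norm_num) (by norm_num)]
  have hB : tp T t 0 * (tp T t 1 * tp T t 3) = T.sEl (32 ^^^ r ^^^ 33) * tp T t 5 := by
    rw [e3, ← mul_assoc, mul_inv_eq_iff_eq_mul.1 h32, mul_assoc, e4, ← mul_assoc,
      T.sEl_mul (xor_lt' (by norm_num) hrlt) (by norm_num)]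
  rw [← mul_assoc, hA] at hB
  have e := T.sEl_inj (by decide) (xor_lt' (xor_lt' (by norm_num) hrlt) (by norm_num))
    (mul_right_cancel hB)
  have hr0 : r = 0 := by
    have e' : 32 ^^^ (49 ^^^ 48) ^^^ 33 = r := by
      rw [e]; simp [Nat.xor_assoc]
    exact e'.symm.trans (by decide)
  -- the first conjugate centralises a vector of the second kind
  rw [show f₀ 32 = 0 from hr0, Nat.xor_zero] at h32
  have c32 : Commute (tp T t 0) (T.sEl 32) := mul_inv_eq_iff_eq_mul.1 h32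
  obtain ⟨himg, hm39, hbit⟩ := RA.szC_img
  have horb : ∀ v ∈ [167, 128], Commute (tp T t 0) (T.sEl v) := by
    intro v hv
    rw [← himg, List.mem_map] at hv
    obtain ⟨e, he, rfl⟩ := hv
    obtain ⟨hL, hc⟩ := entry_facts T ht (pts := [0]) (by simp) (List.all_eq_true.1 RA.szC_ok e he)
    rw [← (hL 32 (by norm_num)).2]
    have c := c32.map (MulAut.conj (kg T e.1)).toMonoidHom
    simp only [MulEquiv.coe_toMonoidHom, MulAut.conj_apply] at c
    rwa [show kg T e.1 * tp T t 0 * (kg T e.1)⁻¹ = tp T t 0 from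
      mul_inv_eq_iff_eq_mul.2 (hc 0 (by simp)).eq] at c
  have c39 : Commute (tp T t 0) (T.sEl 39) :=
    comm_xor T (a := 167) (b := 128) (by norm_num) (by norm_num) (horb 167 (by simp)) (horb 128 (by simp))
  have hnrm : tp T t 0 ∈ T.F.nrm := by
    have h1 := (sort_facts.2.2.1 39 (by norm_num) hbit).2
    have hd : LargeFischer.IsDuad (bv (uOf 39)) :=
      (duad_iff (coord_facts (by norm_num : 39 < 1024)).2.1).2 (J4Type.Orbits.bit_iff.2 h1)
    refine cent_duad T.F T.good hd (mem_centralizer_singleton_iff.2 ?_)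
    rw [← T.sEl_low (Nat.eq_of_beq_eq_true hm39)]
    exact c39.eq
  have hkN : ∀ c, kg T c ∈ T.F.nrm := fun c => by
    rw [kg]
    split_ifs
    · exact (T.kap _).2
    · exact one_mem _
  have htN : t ∈ T.F.nrm := by
    have := mul_mem (mul_mem (inv_mem (hkN (RA.hAt 0))) hnrm) (hkN (RA.hAt 0))
    rwa [show (kg T (RA.hAt 0))⁻¹ * tp T t 0 * kg T (RA.hAt 0) = t by rw [tp]; group] at this
  obtain ⟨-, d, -, hd, -, hnot, -⟩ := exists_centre_frame T hT ht
  refine hnot (mul_mem (mul_mem ?_ htN) (inv_mem ?_)) <;>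
  · obtain ⟨σ, rfl⟩ := hd
    exact (T.kap σ).2

theorem q_cube : (PresentedGroup.of (1 : Fin 2) : J4M24.Q) * PresentedGroup.of 1 * PresentedGroup.of 1 = 1 := by
  have hh : Nat.beq (J4M24.evalCode [((1 : Fin 2), true), (1, true), (1, true)]) rep24.one = true := by
    decide +kernel
  have e := J4DC.toPerms_qW [((1 : Fin 2), true), (1, true), (1, true)]
  rw [Nat.eq_of_beq_eq_true hh, rep24.den_one] at e
  have hn : J4DC.qW [] = 1 := map_one _
  simp only [qW_cons, hn, if_true, mul_one, ← mul_assoc] at e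
  exact J4DC.toPerms_injective (e.trans (map_one _).symm)

theorem yg_cube : yg T * yg T * yg T = 1 := by
  rw [yg, ← map_mul, ← map_mul, q_cube, map_one]

/-- **The first long relator.** -/
theorem relA (hT : Pure T) (ht : IsCentre T t) :
    RelA T t := by
  have h1 := line_one T hT ht
  obtain ⟨hy, e01, e12, e20, -⟩ := yC_facts T ht
  have hb := RA.base_ok
  simp only [Bool.and_eq_true] at hb
  obtain ⟨⟨⟨⟨⟨⟨⟨hk, -⟩, hh0⟩, hyk⟩, -⟩, -⟩, -⟩, -⟩ := hb
  set W : J4DC.Word := [(1, true), (0, true), (1, false), (0, true), (1, true), (0, true), (1, false), (0, true)]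
  have eH := kg_prod T (hAt_ok (i := 0) (by norm_num)) (by decide +kernel) hk hh0
  have eY := kg_rel T hy hk hk (by decide +kernel) hyk
  rw [kg_evalCode] at eH eY
  have hn : J4DC.qW [] = 1 := map_one _
  have eW : wd T W = yg T * xg T * (yg T)⁻¹ * xg T * yg T * xg T * (yg T)⁻¹ * xg T := by
    simp only [W, wd, qW_cons, hn, if_true, if_false, Bool.false_eq_true, mul_one, map_mul, map_inv, xg, yg,
      mul_assoc]
  have eY1 : wd T [(1, true)] = yg T := by
    simp only [wd, qW_cons, hn, if_true, mul_one, yg]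
  rw [eY1] at eY
  set k := kg T RA.kC
  set Y := kg T RA.yC
  set a := tp T t 0 with ha
  have e1 : (Y * a) ^ 3 = 1 := by
    have e3 : Y * Y * a * (Y * Y)⁻¹ = tp T t 2 := by rw [← e12, ← e01]; group
    have hc : Commute (Y * Y * Y) a := by
      refine mul_inv_eq_iff_eq_mul.1 ?_
      calc Y * Y * Y * a * (Y * Y * Y)⁻¹ = Y * (Y * Y * a * (Y * Y)⁻¹) * Y⁻¹ := by group
        _ = a := by rw [e3, e20]
    have hy3 : Y * Y * Y = 1 := by
      have hyY := yg_cube T
      have : Y = k * yg T * k⁻¹ := eq_mul_inv_iff_mul_eq.2 eY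
      calc Y * Y * Y = k * (yg T * yg T * yg T) * k⁻¹ := by rw [this]; group
        _ = 1 := by rw [hyY]; group
    calc (Y * a) ^ 3 = (Y * a * Y⁻¹) * (Y * Y * a * (Y * Y)⁻¹) * (Y * Y * Y * a) := by
          rw [pow_succ, pow_two]; group
      _ = tp T t 1 * tp T t 2 * a := by rw [e01, e3, hy3, one_mul]
      _ = 1 := h1
  have eA : a = k * ((wd T W)⁻¹ * t * wd T W) * k⁻¹ := by
    rw [ha, tp, ← eH]; group
  have eY' : Y = k * yg T * k⁻¹ := eq_mul_inv_iff_mul_eq.2 eY
  show (yg T * ((yg T * xg T * (yg T)⁻¹ * xg T * yg T * xg T * (yg T)⁻¹ * xg T)⁻¹ * t *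
    (yg T * xg T * (yg T)⁻¹ * xg T * yg T * xg T * (yg T)⁻¹ * xg T))) ^ 3 = 1
  rw [← eW]
  have : (Y * a) ^ 3 = k * (yg T * ((wd T W)⁻¹ * t * wd T W)) ^ 3 * k⁻¹ := by
    have hbase : Y * a = k * (yg T * ((wd T W)⁻¹ * t * wd T W)) * k⁻¹ := by
      rw [eY', eA]; group
    rw [hbase, conj_pow]
  rw [this, conj_eq_one_iff] at e1
  exact e1

end Cfsg.Agent.J4Uniq
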