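import Cfsg.Agent.J4Uniq.RB.Tools

/-!
# The second long relator

With `a`, `b`, `c` the conjugates of the third generator of the two trios and of the trio through their two
disjoint octads and `r` the square of the element of order four, the relator says that `p = a b a b c r` is
trivial.  Twelve duads are fixed by `p`, so `p` lies in `N(V)`; sixteen candidates are left, and the relations
of lines through an octad exclude all but the identity.
-/

set_option autoImplicit false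
set_option maxRecDepth 20000
set_option maxHeartbeats 2000000

open Cfsg Subgroup

namespace Cfsg.Agent.J4Uniq

open LargeExtra (oc)
open LargeFischer (W11 bv pt)
open J4Type (mSub)
open J4Type.V11
open Compute (rep24 inM24B mem_M24_of_check allBelow allBelow_eq_true bitB bitB_eq)
open TenLocal
open TenLocal.Oct (uOf mOf rC)

variable {G : Type*} [Group G] [Finite G] {z : G} {P : Subgroup G} {V : Type*}
  [AddCommGroup V] {π : ↥(oc z) →* Multiplicative V} {ρ : ↥(mSub z P) →* Equiv.Perm V}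
  {q : V → ZMod 2} {B : List V} {S : Sys z P π ρ q B} (T : Sect S) {t : G}

omit [Finite G] in
/-- Three involutions with `x y = w`. -/
theorem pair_line {x y w : G} (hx : x * x = 1) (hy : y * y = 1) (hw : w * w = 1) (h : x * y = w) :
    Commute x w ∧ Commute y w ∧ w * x = y := by
  have h2 : y * x = w := by
    calc y * x = (x * y)⁻¹ := by
          rw [mul_inv_rev, inv_eq_of_mul_eq_one_right hx, inv_eq_of_mul_eq_one_right hy]
      _ = w := by rw [h, inv_eq_of_mul_eq_one_right hw]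
  refine ⟨?_, ?_, ?_⟩
  · show x * w = w * x
    calc x * w = x * x * y := by rw [← h, mul_assoc]
      _ = y * (x * x) := by rw [hx, one_mul, mul_one]
      _ = w * x := by rw [← h2, mul_assoc]
  · show y * w = w * y
    calc y * w = y * y * x := by rw [← h2, mul_assoc]
      _ = x * (y * y) := by rw [hy, one_mul, mul_one]
      _ = w * y := by rw [← h, mul_assoc]
  · rw [← h2, mul_assoc, hx, mul_one]

/-- The four conjugates and the square. -/
structure Cfg (a b c b' a' r : G) : Prop where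
  aa : a * a = 1
  bb : b * b = 1
  cc : c * c = 1
  ac : Commute a c
  bc : Commute b c
  line_b : b' * b = c
  line_a : a' * a = c
  ra : Commute a r
  rb : Commute b r
  rc : Commute c r
  rr : r * r = 1
  eb' : b * c = b'

theorem stab3 (ht : IsCentre T t) {s : ℕ} {ws : List ℕ} (h : RB.stab3B s ws = true) :
    inM24B s = true ∧ ∀ i < 3, Commute (tg T t (RB.hAt i)) (kg T s) := by
  simp only [RB.stab3B, Bool.and_eq_true, allBelow_eq_true] at h
  exact ⟨h.1, fun i hi => tg_comm T ht h.1 (hX_mem (by omega)) (h.2 i hi)⟩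

theorem cfg (hT : Pure T) (ht : IsCentre T t) :
    Cfg (tg T t (RB.hAt 0)) (tg T t (RB.hAt 1)) (tg T t (RB.hAt 2)) (tg T t (RB.hAt 3))
      (tg T t (RB.hAt 4)) (kg T RB.rC2.1) := by
  have l1 : tg T t (RB.hAt 1) * tg T t (RB.hAt 2) = tg T t (RB.hAt 3) :=
    line_rel T hT ht (ids := [1, 2, 3]) (by simp)
  have l2 : tg T t (RB.hAt 4) * tg T t (RB.hAt 0) = tg T t (RB.hAt 2) :=
    line_rel T hT ht (ids := [4, 0, 2]) (by simp)
  have sq := fun i => tg_sq T ht (RB.hAt i)
  obtain ⟨-, h02, -⟩ := pair_line (sq 4) (sq 0) (sq 2) l2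
  obtain ⟨c13, -, h31⟩ := pair_line (sq 1) (sq 2) (sq 3) l1
  have hb := RB.base_ok
  simp only [Bool.and_eq_true] at hb
  obtain ⟨⟨⟨⟨⟨⟨⟨⟨hr3, -⟩, -⟩, -⟩, -⟩, hrr⟩, -⟩, -⟩, -⟩ := hb
  obtain ⟨hr, hc⟩ := stab3 T ht hr3
  have h12 : Commute (tg T t (RB.hAt 1)) (tg T t (RB.hAt 2)) := by
    have e : tg T t (RB.hAt 2) = tg T t (RB.hAt 1) * tg T t (RB.hAt 3) := by
      rw [← l1, ← mul_assoc, sq 1, one_mul]
    rw [e]; exact (Commute.refl _).mul_right c13
  exact ⟨sq 0, sq 1, sq 2, h02, h12, h31, l2, hc 0 (by norm_num), hc 1 (by norm_num), hc 2 (by norm_num),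
    kg_invol T hr hrr, l1⟩

/-- The product of the relator fixes the listed duads. -/
theorem op_fixed (hT : Pure T) (ht : IsCentre T t) {e : ℕ × ℕ × ℕ × ℕ × ℕ × List ℕ} (he : e ∈ RB.opC) :
    RB.vec e.1 e.2.1 < 2048 ∧ LargeFischer.tmask.testBit (RB.vec e.1 e.2.1) = true ∧
    Commute (tg T t (RB.hAt 0) * tg T t (RB.hAt 1) * tg T t (RB.hAt 0) * tg T t (RB.hAt 1) *
      tg T t (RB.hAt 2) * kg T RB.rC2.1) (wg T.F (bv (RB.vec e.1 e.2.1))) := by
  obtain ⟨i, j, q0, q2, q1, ws⟩ := e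
  obtain ⟨haa, hbb, hcc, hac, hbc, hlb, hla, hra, hrb, hrc, hrr, -⟩ := cfg T hT ht
  have hok := List.all_eq_true.1 RB.opC_ok _ he
  simp only [RB.opB, Bool.and_eq_true, Bool.not_eq_true', Nat.blt_eq] at hok
  obtain ⟨⟨⟨⟨⟨⟨⟨⟨⟨⟨⟨⟨⟨⟨⟨⟨⟨⟨⟨⟨⟨⟨⟨⟨hi, hj⟩, hij⟩, hv⟩, hbit⟩, hq0⟩, hq2⟩, hq1⟩, s0⟩, s2⟩, s1⟩,
    hm02⟩, hm1⟩, p0⟩, p2⟩, p1⟩, hrw⟩, w00⟩, w013⟩, w022⟩, w211⟩, w204⟩, w222⟩, w100⟩, w111⟩ := hok
  refine ⟨hv, by rw [← bitB_eq]; exact hbit, ?_⟩
  set a := tg T t (RB.hAt 0)
  set b := tg T t (RB.hAt 1)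
  set c := tg T t (RB.hAt 2)
  set w := wg T.F (bv (RB.vec i j))
  set Q0 := kg T q0 with hQ0
  set Q2 := kg T q2 with hQ2
  set Q1 := kg T q1
  have aw : a * w * a = w * Q0 := phi_move T hT ht p0
  have bw : b * w * b = w * Q2 := phi_move T hT ht p2
  have cw : c * w * c = w * Q1 := phi_move T hT ht p1
  have aQ0 : Commute a Q0 := tg_comm T ht hq0 (hX_mem (by norm_num)) w00
  have cQ0 : Commute c Q0 := tg_comm T ht hq0 (hX_mem (by norm_num)) w022
  have bQ2 : Commute b Q2 := tg_comm T ht hq2 (hX_mem (by norm_num)) w211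
  have cQ2 : Commute c Q2 := tg_comm T ht hq2 (hX_mem (by norm_num)) w222
  have aQ1 : Commute a Q1 := tg_comm T ht hq1 (hX_mem (by norm_num)) w100
  have bQ1 : Commute b Q1 := tg_comm T ht hq1 (hX_mem (by norm_num)) w111
  have eQ0 : Q0 * Q0 = 1 := kg_invol T hq0 s0
  have eQ2 : Q2 * Q2 = 1 := kg_invol T hq2 s2
  have eQ1 : Q1 * Q1 = 1 := kg_invol T hq1 s1
  have bQ0 : b * Q0 * b = Q0 * c := by
    have h3 : Q0 * b * Q0⁻¹ = tg T t (RB.hAt 3) := tg_map T ht hq0 (hX_mem (by norm_num)) (hX_mem (by norm_num)) w013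
    rw [inv_eq_of_mul_eq_one_right eQ0] at h3
    rw [← hlb, ← h3, ← mul_assoc Q0 (Q0 * b * Q0) b, ← mul_assoc Q0 (Q0 * b) Q0, ← mul_assoc Q0 Q0 b, eQ0,
      one_mul]
  have aQ2 : a * Q2 * a = Q2 * c := by
    have h4 : Q2 * a * Q2⁻¹ = tg T t (RB.hAt 4) := tg_map T ht hq2 (hX_mem (by norm_num)) (hX_mem (by norm_num)) w204
    rw [inv_eq_of_mul_eq_one_right eQ2] at h4
    rw [← hla, ← h4, ← mul_assoc Q2 (Q2 * a * Q2) a, ← mul_assoc Q2 (Q2 * a) Q2, ← mul_assoc Q2 Q2 a, eQ2,
      one_mul]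
  have aQ0' : a * Q0 * a = Q0 := by rw [aQ0.eq, mul_assoc, haa, mul_one]
  have bQ2' : b * Q2 * b = Q2 := by rw [bQ2.eq, mul_assoc, hbb, mul_one]
  have bcb : b * c * b = c := by rw [hbc.eq, mul_assoc, hbb, mul_one]
  have hQ : Q0 * Q2 * (Q0 * Q2) = Q1 := by
    rw [hQ0, hQ2, kg_prod T hq0 hq2 hm02 (Nat.beq_refl _), kg_prod T hm02 hm02 hq1 hm1]
  have split : ∀ {x : G}, x * x = 1 → ∀ u v : G, x * (u * v) * x = x * u * x * (x * v * x) := by
    intro x hx u v
    calc x * (u * v) * x = x * u * (x * x) * (v * x) := by rw [hx, mul_one]; group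
      _ = _ := by group
  have e2 : a * (w * Q2) * a = w * Q0 * (Q2 * c) := by rw [split haa, aw, aQ2]
  have e3 : b * (w * Q0 * (Q2 * c)) * b = w * Q2 * Q0 * Q2 := by
    rw [split hbb, split hbb, split hbb, bw, bQ0, bQ2', bcb]
    calc w * Q2 * (Q0 * c) * (Q2 * c) = w * Q2 * Q0 * ((c * Q2) * c) := by group
      _ = w * Q2 * Q0 * (Q2 * (c * c)) := by rw [cQ2.eq]; group
      _ = _ := by rw [hcc, mul_one]
  have e4 : a * (w * Q2 * Q0 * Q2) * a = w * Q1 := by
    rw [split haa, split haa, split haa, aw, aQ0', aQ2]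
    calc w * Q0 * (Q2 * c) * Q0 * (Q2 * c) = w * Q0 * Q2 * (c * (Q0 * Q2)) * c := by group
      _ = w * Q0 * Q2 * (Q0 * Q2 * c) * c := by rw [(cQ0.mul_right cQ2).eq]
      _ = w * (Q0 * Q2 * (Q0 * Q2)) * (c * c) := by group
      _ = w * Q1 := by rw [hQ, hcc, mul_one]
  set s := a * b * a * b with hs
  have si : s⁻¹ = b * a * b * a := by
    rw [hs, mul_inv_rev, mul_inv_rev, mul_inv_rev, inv_eq_of_mul_eq_one_right haa,
      inv_eq_of_mul_eq_one_right hbb]
    group
  have es : s * w * s⁻¹ = w * Q1 := by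
    rw [si, ← e4, ← e3, ← e2, ← bw, hs]; group
  have sQ1 : Commute s Q1 := ((aQ1.mul_left bQ1).mul_left aQ1).mul_left bQ1
  have hb := RB.base_ok
  simp only [Bool.and_eq_true] at hb
  have hrs : RB.stab3B RB.rC2.1 RB.rC2.2 = true := hb.1.1.1.1.1.1.1.1
  have hr : inM24B RB.rC2.1 = true := (stab3 T ht hrs).1
  have ew : kg T RB.rC2.1 * w * (kg T RB.rC2.1)⁻¹ = w := by
    rw [kg_wg T hr hv, Nat.eq_of_beq_eq_true hrw]
  refine mul_inv_eq_iff_eq_mul.1 ?_
  calc s * c * kg T RB.rC2.1 * w * (s * c * kg T RB.rC2.1)⁻¹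
      = s * (c * (kg T RB.rC2.1 * w * (kg T RB.rC2.1)⁻¹) * c⁻¹) * s⁻¹ := by group
    _ = s * (w * Q1) * s⁻¹ := by rw [ew, inv_eq_of_mul_eq_one_right hcc, cw]
    _ = s * w * s⁻¹ * (s * Q1 * s⁻¹) := by group
    _ = w := by rw [es, sQ1.eq, mul_inv_cancel_right, mul_assoc, eQ1, mul_one]

omit [Finite G] in
/-- A decomposition on a line excludes a value of the commutator. -/
theorem no_value {X Y c rp ka kb qa qb xa xb : G} {N : Subgroup G} (hXY : Y * X * Y = X * rp * c)
    (hY : Y * Y = 1) (hc : c * c = 1) (eX : xa * xb = X)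
    (a1 : ka * X * ka⁻¹ = xa) (a2 : Commute ka Y) (a3 : Commute ka c) (a4 : ka * rp = qa * ka)
    (b1 : kb * X * kb⁻¹ = xb) (b2 : Commute kb Y) (b3 : Commute kb c) (b4 : kb * rp = qb * kb)
    (hXc : Commute X c) (hqb : Commute c qb) (hqa : Commute xb qa)
    (hN : rp ∈ N ∧ qa ∈ N ∧ qb ∈ N) : c ∈ N := by
  have key : ∀ {k x qq : G}, k * X * k⁻¹ = x → Commute k Y → Commute k c → k * rp = qq * k →
      Y * x * Y = x * qq * c := by
    intro k x qq h1 h2 h3 h4
    have eY : k * Y * k⁻¹ = Y := mul_inv_eq_iff_eq_mul.2 h2.eq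
    have ec : k * c * k⁻¹ = c := mul_inv_eq_iff_eq_mul.2 h3.eq
    have er : k * rp * k⁻¹ = qq := mul_inv_eq_iff_eq_mul.2 h4
    calc Y * x * Y = k * Y * k⁻¹ * (k * X * k⁻¹) * (k * Y * k⁻¹) := by rw [eY, h1]
      _ = k * (Y * X * Y) * k⁻¹ := by group
      _ = k * X * k⁻¹ * (k * rp * k⁻¹) * (k * c * k⁻¹) := by rw [hXY]; group
      _ = x * qq * c := by rw [h1, er, ec]
  have hxc : Commute c xb := by
    rw [← b1, ← mul_inv_eq_iff_eq_mul.2 b3.eq]
    exact hXc.symm.map (MulAut.conj kb).toMonoidHom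
  have e : X * rp * c = X * (qa * qb) := by
    calc X * rp * c = Y * (xa * xb) * Y := by rw [eX, hXY]
      _ = Y * xa * (Y * Y) * (xb * Y) := by rw [hY, mul_one]; group
      _ = Y * xa * Y * (Y * xb * Y) := by group
      _ = xa * qa * (c * xb) * qb * c := by rw [key a1 a2 a3 a4, key b1 b2 b3 b4]; group
      _ = xa * (qa * xb) * (c * qb) * c := by rw [hxc.eq]; group
      _ = xa * (xb * qa) * (qb * c) * c := by rw [hqb.eq, hqa.eq]
      _ = X * (qa * qb) * (c * c) := by rw [← eX]; group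
      _ = _ := by rw [hc, mul_one]
  rw [mul_assoc] at e
  rw [show c = rp⁻¹ * (qa * qb) from eq_inv_mul_of_mul_eq (mul_left_cancel e)]
  exact mul_mem (inv_mem hN.1) (mul_mem hN.2.1 hN.2.2)

theorem relator_prod (hT : Pure T) (ht : IsCentre T t) :
    tg T t (RB.hAt 0) * tg T t (RB.hAt 1) * tg T t (RB.hAt 0) * tg T t (RB.hAt 1) *
      tg T t (RB.hAt 2) * kg T RB.rC2.1 = 1 := by
  obtain ⟨haa, hbb, hcc, hac, hbc, -, -, hra, hrb, hrc, hrr, -⟩ := cfg T hT ht
  set a := tg T t (RB.hAt 0) with ha_def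
  set b := tg T t (RB.hAt 1) with hb_def
  set c := tg T t (RB.hAt 2) with hc_def
  set r := kg T RB.rC2.1
  set p := a * b * a * b * c * r with hp
  -- it lies in the normaliser
  obtain ⟨e₀, he₀, -⟩ := List.any_eq_true.1 RB.opC_ne
  have hpN : p ∈ T.F.nrm := by
    by_contra hn
    obtain ⟨hv, hbit, hc0⟩ := op_fixed T hT ht he₀
    exact not_comm_duad T hn hv hbit hc0
  obtain ⟨v, hpv⟩ := T.exists_el hpN
  set σ := T.F.theta T.good ⟨p, hpN⟩
  have hpair : ∀ k < 12, ((σ : Equiv.Perm GolayPt) (rep24.pt (RB.opC.getD k (0, 0, 0, 0, 0, [])).1) =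
        rep24.pt (RB.opC.getD k (0, 0, 0, 0, 0, [])).1 ∧
      (σ : Equiv.Perm GolayPt) (rep24.pt (RB.opC.getD k (0, 0, 0, 0, 0, [])).2.1) =
        rep24.pt (RB.opC.getD k (0, 0, 0, 0, 0, [])).2.1) ∨
      ((σ : Equiv.Perm GolayPt) (rep24.pt (RB.opC.getD k (0, 0, 0, 0, 0, [])).1) =
        rep24.pt (RB.opC.getD k (0, 0, 0, 0, 0, [])).2.1 ∧
      (σ : Equiv.Perm GolayPt) (rep24.pt (RB.opC.getD k (0, 0, 0, 0, 0, [])).2.1) =
        rep24.pt (RB.opC.getD k (0, 0, 0, 0, 0, [])).1) := by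
    intro k hk
    have hlen : k < RB.opC.length := by rw [Nat.eq_of_beq_eq_true RB.opC_len]; exact hk
    rw [List.getD_eq_getElem _ _ hlen]
    have he := List.getElem_mem (l := RB.opC) hlen
    obtain ⟨hv, -, hcm⟩ := op_fixed T hT ht he
    have hok := List.all_eq_true.1 RB.opC_ok _ he
    generalize RB.opC[k] = E at *
    obtain ⟨i, j, q0, q2, q1, ws⟩ := E
    dsimp only at hv hcm ⊢
    simp only [RB.opB, Bool.and_eq_true, Bool.not_eq_true', Nat.blt_eq] at hok
    have hi : i < 24 := hok.1.1.1.1.1.1.1.1.1.1.1.1.1.1.1.1.1.1.1.1.1.1.1.1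
    have hj : j < 24 := hok.1.1.1.1.1.1.1.1.1.1.1.1.1.1.1.1.1.1.1.1.1.1.1.2
    have hij : Nat.beq i j = false := hok.1.1.1.1.1.1.1.1.1.1.1.1.1.1.1.1.1.1.1.1.1.1.2
    have hne : rep24.pt i ≠ rep24.pt j := fun e => by
      rw [rep24.pt_inj i j hi hj e, Nat.beq_refl] at hij; exact Bool.noConfusion hij
    have hbv : bv (RB.vec i j) = pt (rep24.pt i) + pt (rep24.pt j) := by
      rw [show RB.vec i j = vpL.getD i 0 ^^^ vpL.getD j 0 from rfl, LargeFischer.bv_xor, pts_ok hi, pts_ok hj]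
    have hfix : T.act σ (bv (RB.vec i j)) = bv (RB.vec i j) := by
      have e : p * wg T.F (bv (RB.vec i j)) * p⁻¹ = wg T.F (bv (RB.vec i j)) :=
        mul_inv_eq_iff_eq_mul.2 hcm.eq
      rw [hpv, show wg T.F (bv (RB.vec i j)) = T.el (bv (RB.vec i j)) 1 from wg_eq_el T _, T.el_conj,
        mul_one, mul_inv_cancel, T.act_one] at e
      have := (T.el_inj e).1
      rwa [add_comm v, add_assoc, LargeFischer.self11, add_zero] at this
    rw [hbv, T.acts σ (rep24.pt i) (rep24.pt j)] at hfix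
    exact LargeFischer.pair_eq ((σ : Equiv.Perm GolayPt).injective.ne hne) hne hfix
  -- the code of its permutation
  classical
  set m := Compute.pack 1 12 fun k =>
    if (σ : Equiv.Perm GolayPt) (rep24.pt (RB.opC.getD k (0, 0, 0, 0, 0, [])).1) =
      rep24.pt (RB.opC.getD k (0, 0, 0, 0, 0, [])).1 then 0 else 1 with hm
  have hmlt : m < 4096 := lt_of_lt_of_eq (Compute.pack_lt 1 12 _ fun k _ => by split_ifs <;> norm_num) (by norm_num)
  have hscan := allBelow_eq_true.1 RB.four_scan m hmlt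
  simp only [Bool.and_eq_true, Bool.or_eq_true, Bool.not_eq_true'] at hscan
  obtain ⟨⟨hokb, hcols⟩, hcase⟩ := hscan
  have hokc := rep24.okb_sound _ hokb
  have hop : ∀ k < 12, (RB.opC.getD k (0, 0, 0, 0, 0, [])).1 < 24 ∧
      (RB.opC.getD k (0, 0, 0, 0, 0, [])).2.1 < 24 := by
    have : allBelow 12 (fun k => Nat.blt (RB.opC.getD k (0, 0, 0, 0, 0, [])).1 24 &&
        Nat.blt (RB.opC.getD k (0, 0, 0, 0, 0, [])).2.1 24) = true := by decide +kernel
    intro k hk
    simpa using allBelow_eq_true.1 this k hk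
  have himg : ∀ a < 24, (σ : Equiv.Perm GolayPt) (rep24.pt a) =
      rep24.pt (Compute.getField 5 (RB.swCode m) a) := by
    intro a ha
    have hcov := allBelow_eq_true.1 RB.cover a ha
    rw [RB.swCode, Compute.getField_pack 5 24 _ (fun i hi => ?_) ha]
    · revert hcov
      cases hf : (RB.opC.findIdx? fun e => (Nat.beq e.1 a || Nat.beq e.2.1 a)) with
      | none => intro h; exact Bool.noConfusion h
      | some k =>
        intro hk
        have hk : k < 12 := by simpa using hk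
        obtain ⟨hlen, hpk, -⟩ := List.findIdx?_eq_some_iff_getElem.1 hf
        rw [Bool.or_eq_true, ← List.getD_eq_getElem _ (0, 0, 0, 0, 0, []) hlen] at hpk
        simp only [Option.elim_some]
        have hbitk : bitB m k = !decide ((σ : Equiv.Perm GolayPt) (rep24.pt (RB.opC.getD k (0, 0, 0, 0, 0, [])).1) =
            rep24.pt (RB.opC.getD k (0, 0, 0, 0, 0, [])).1) := by
          have h1 := Compute.getField_pack 1 12 (fun k =>
            if (σ : Equiv.Perm GolayPt) (rep24.pt (RB.opC.getD k (0, 0, 0, 0, 0, [])).1) =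
              rep24.pt (RB.opC.getD k (0, 0, 0, 0, 0, [])).1 then 0 else 1)
            (fun k _ => by split_ifs <;> norm_num) hk
          rw [← hm, Compute.getField_eq] at h1
          rw [bitB_eq, Nat.testBit_eq_decide_div_mod_eq, show (2 : ℕ) ^ k = 2 ^ (1 * k) by rw [one_mul]]
          simp only [pow_one] at h1
          rw [h1]
          split_ifs with h
          · rw [decide_eq_true h]; rfl
          · rw [decide_eq_false h]; rfl
        rw [hbitk]
        have hp2 := hpair k hk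
        by_cases h : (σ : Equiv.Perm GolayPt) (rep24.pt (RB.opC.getD k (0, 0, 0, 0, 0, [])).1) =
            rep24.pt (RB.opC.getD k (0, 0, 0, 0, 0, [])).1
        · simp only [h, decide_true, Bool.not_true, cond_false]
          rcases hpk with e | e
          · rw [← Nat.eq_of_beq_eq_true e]; exact h
          · rw [← Nat.eq_of_beq_eq_true e]
            rcases hp2 with ⟨-, h2⟩ | ⟨h1, h2⟩
            · exact h2
            · rw [h2, ← h, h1]
        · simp only [h, decide_false, Bool.not_false, cond_true]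
          rcases hp2 with ⟨h1, -⟩ | ⟨h1, h2⟩
          · exact absurd h1 h
          rcases hpk with e | e
          · rw [← Nat.eq_of_beq_eq_true e, Nat.beq_refl, cond_true]; exact h1
          · rw [← Nat.eq_of_beq_eq_true e]
            cases hb : Nat.beq (RB.opC.getD k (0, 0, 0, 0, 0, [])).1 (RB.opC.getD k (0, 0, 0, 0, 0, [])).2.1
            · rw [cond_false]; exact h2
            · exact absurd ((congrArg (fun x => (σ : Equiv.Perm GolayPt) (rep24.pt x))
                (Nat.eq_of_beq_eq_true hb)).trans h2) h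
    · cases hf : (RB.opC.findIdx? fun e => (Nat.beq e.1 i || Nat.beq e.2.1 i)) with
      | none => simpa using (show i < 32 by omega)
      | some k =>
        simp only [Option.elim_some]
        obtain ⟨hlen, -⟩ := List.findIdx?_eq_some_iff_getElem.1 hf
        have hk : k < 12 := by rw [← Nat.eq_of_beq_eq_true RB.opC_len]; exact hlen
        obtain ⟨h1, h2⟩ := hop k hk
        cases bitB m k
        · show i < 32; omega
        · cases Nat.beq (RB.opC.getD k (0, 0, 0, 0, 0, [])).1 i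
          · show (RB.opC.getD k (0, 0, 0, 0, 0, [])).1 < 32; omega
          · show (RB.opC.getD k (0, 0, 0, 0, 0, [])).2.1 < 32; omega
  have hσ : (σ : Equiv.Perm GolayPt) = rep24.den (RB.swCode m) :=
    perm_ext_pts fun a ha => by rw [himg a ha, den_pt hokc ha]; rfl
  have hmem : rep24.den (RB.swCode m) ∈ M24 := hσ ▸ σ.2
  have hlin : RB.linB (RB.swCode m) = true := by
    rw [RB.linB, allBelow_eq_true]
    intro i hi
    rw [Nat.beq_eq]
    have hvl : ∀ a < 24, vpL.getD a 0 < 2048 := by decide +kernel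
    have hg : ∀ a < 24, Compute.getField 5 (RB.swCode m) a < 24 := fun a ha => rep24.act_lt _ a hokc ha
    refine LargeFischer.bv_inj (mapp_lt _ (fun c hc => by simpa using List.all_eq_true.1 hcols c hc) _)
      (Nat.xor_lt_two_pow (n := 11) (hvl _ (hg i hi)) (hvl _ (hg 23 (by norm_num)))) ?_
    have h0 : pt (rep24.pt 23) = 0 := by
      rw [← pts_ok (by norm_num : 23 < 24)]; exact LargeFischer.bv_zero
    rw [← T.act_code hokc hmem (hvl i hi), show (⟨_, hmem⟩ : ↥M24) = σ from Subtype.ext hσ.symm,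
      pts_ok hi, ← add_zero (pt (rep24.pt i)), ← h0, T.acts σ, himg i hi, himg 23 (by norm_num),
      ← pts_ok (hg i hi), ← pts_ok (hg 23 (by norm_num)), ← LargeFischer.bv_xor]
    rfl
  rw [hlin] at hcase
  obtain ⟨e, he, hec⟩ := List.any_eq_true.1 (hcase.resolve_left (by simp))
  obtain ⟨s₁, sr, ws⟩ := e
  have hs₁ : s₁ = RB.swCode m := Nat.eq_of_beq_eq_true hec
  revert he
  rw [hs₁]
  intro he
  have hf := List.all_eq_true.1 RB.fourC_ok _ he
  simp only [Bool.and_eq_true, Bool.or_eq_true, List.all_eq_true, Nat.blt_eq] at hf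
  obtain ⟨⟨⟨⟨⟨hs3, hsr⟩, hmulr⟩, hinv⟩, hfixv⟩, hlast⟩ := hf
  obtain ⟨hs, hsc⟩ := stab3 T ht hs3
  set σg := kg T (RB.swCode m) with hσg
  have eσ : (T.kap σ : G) = σg := by
    rw [hσg, kg_eq T hs]
    exact congrArg (fun σ : ↥M24 => ((T.kap σ : ↥T.F.nrm) : G)) (Subtype.ext hσ)
  obtain ⟨x, hx, rfl⟩ := bv_surj v
  have hel : p = wg T.F (bv x) * σg := by rw [hpv, Sect.el, eσ]
  -- its vector is fixed by the common stabiliser
  have hxfx : x ∈ RB.fxC := by
    have hch := allBelow_eq_true.1 RB.fx_ok x hx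
    rw [Bool.or_eq_true, Bool.not_eq_true'] at hch
    rcases hch with h | h
    · rw [← Bool.not_eq_true, List.all_eq_true] at h
      refine absurd (fun f hf' => ?_) h
      have hk := List.all_eq_true.1 RB.e2C_ok f hf'
      simp only [Bool.and_eq_true] at hk
      obtain ⟨⟨hk3, hcol⟩, hkr⟩ := hk
      obtain ⟨hks, hkc⟩ := stab3 T ht hk3
      have hr : inM24B RB.rC2.1 = true := by
        have hb := RB.base_ok
        simp only [Bool.and_eq_true] at hb
        exact (stab3 T ht hb.1.1.1.1.1.1.1.1).1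
      have cp : Commute p (kg T f.1) :=
        ((((((hkc 0 (by norm_num)).mul_left (hkc 1 (by norm_num))).mul_left (hkc 0 (by norm_num))).mul_left
          (hkc 1 (by norm_num))).mul_left (hkc 2 (by norm_num))).mul_left
          (kg_rel T hks hr hr hks hkr).symm)
      obtain ⟨hkok, hkmem⟩ := mem_M24_of_check hks
      have e1 : kg T f.1 = T.el 0 ⟨rep24.den f.1, hkmem⟩ := by rw [kg_eq T hks, Sect.el, wg_zero, one_mul]
      have e2 : kg T f.1 * p * (kg T f.1)⁻¹ = p := mul_inv_eq_iff_eq_mul.2 cp.eq.symm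
      rw [e1, hpv, T.el_conj, map_zero, zero_add, add_zero, T.act_code hkok hkmem hx] at e2
      have := LargeFischer.bv_inj (mapp_lt _ (fun c hc => by simpa using List.all_eq_true.1 hcol c hc) x) hx
        (T.el_inj e2).1
      rw [this]; exact Nat.beq_refl _
    · obtain ⟨w, hw, ew⟩ := List.any_eq_true.1 h
      exact Nat.eq_of_beq_eq_true ew ▸ hw
  have hσx : σg * wg T.F (bv x) * σg⁻¹ = wg T.F (bv x) := by
    rw [hσg, kg_wg T hs hx, Nat.eq_of_beq_eq_true (hfixv x hxfx).2]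
  have hσ2 : σg * σg = 1 := kg_invol T hs hinv
  have hpp : p * p = 1 := by
    rw [hel, show wg T.F (bv x) * σg * (wg T.F (bv x) * σg) =
      wg T.F (bv x) * (σg * wg T.F (bv x) * σg⁻¹) * (σg * σg) by group, hσx, hσ2, mul_one, ← wg_add,
      LargeFischer.self11, wg_zero]
  -- it commutes with a and b
  set s := a * b * a * b with hsdef
  have si : s⁻¹ = b * a * b * a := by
    rw [hsdef, mul_inv_rev, mul_inv_rev, mul_inv_rev, inv_eq_of_mul_eq_one_right haa,
      inv_eq_of_mul_eq_one_right hbb]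
    group
  have sc : Commute s c := ((hac.mul_left hbc).mul_left hac).mul_left hbc
  have sr : Commute s r := ((hra.mul_left hrb).mul_left hra).mul_left hrb
  have pinv : p⁻¹ = s⁻¹ * c * r := by
    rw [hp, mul_inv_rev, mul_inv_rev, inv_eq_of_mul_eq_one_right hcc, inv_eq_of_mul_eq_one_right hrr]
    calc r * (c * s⁻¹) = r * s⁻¹ * c := by rw [sc.inv_left.symm.eq]; group
      _ = s⁻¹ * (r * c) := by rw [sr.inv_left.symm.eq]; group
      _ = s⁻¹ * c * r := by rw [hrc.symm.eq]; group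
  have pcomm : ∀ {g : G}, g * g = 1 → Commute g c → Commute g r → g * s * g = s⁻¹ → Commute g p := by
    intro g hg gc gr gs
    show g * p = p * g
    have e : g * p * g = p⁻¹ := by
      rw [pinv, ← gs, hp]
      calc g * (s * c * r) * g = g * s * (c * r * g) := by group
        _ = g * s * (g * (c * r)) := by rw [← (gc.mul_right gr).eq]
        _ = _ := by group
    rw [inv_eq_of_mul_eq_one_right hpp] at e
    calc g * p = g * p * (g * g) := by rw [hg, mul_one]
      _ = g * p * g * g := by group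
      _ = p * g := by rw [e]
  have pa : Commute a p := pcomm haa hac hra (by
    rw [si, hsdef]
    calc a * (a * b * a * b) * a = a * a * (b * a * b * a) := by group
      _ = _ := by rw [haa, one_mul])
  have pb : Commute b p := pcomm hbb hbc hrb (by
    rw [si, hsdef]
    calc b * (a * b * a * b) * b = b * a * b * a * (b * b) := by group
      _ = _ := by rw [hbb, mul_one])
  have hwa : ∀ {g : G}, Commute g p → Commute g σg → Commute g (wg T.F (bv x)) := by
    intro g h1 h2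
    have : wg T.F (bv x) = p * σg⁻¹ := by rw [hel, mul_inv_cancel_right]
    rw [this]; exact h1.mul_right h2.inv_right
  have hx0 : x = 0 := by
    rcases Bool.or_eq_true_iff.1 (List.all_eq_true.1 RB.fx_cover x hxfx) with h | h
    · exact Nat.eq_of_beq_eq_true h
    exfalso
    obtain ⟨e, he', ex⟩ := List.any_eq_true.1 h
    have hok := List.all_eq_true.1 RB.zC_ok e he'
    simp only [Bool.and_eq_true, List.all_eq_true, Nat.blt_eq] at hok
    obtain ⟨⟨⟨⟨hhi, htv⟩, hbit⟩, hents⟩, hfold⟩ := hok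
    have hgx : Commute (tg T t (RB.hAt e.2.1)) (wg T.F (bv x)) := by
      rcases (show e.2.1 = 0 ∨ e.2.1 = 1 by omega) with h0 | h0 <;> rw [h0]
      · exact hwa pa (hsc 0 (by norm_num))
      · exact hwa pb (hsc 1 (by norm_num))
    refine not_comm_duad T (tg_not_nrm T hT ht (RB.hAt e.2.1)) htv (by rw [← bitB_eq]; exact hbit) ?_
    rw [← Nat.eq_of_beq_eq_true hfold]
    have : ∀ L : List (ℕ × ℕ × ℕ), (∀ f ∈ L, Commute (tg T t (RB.hAt e.2.1)) (wg T.F (bv f.2.1))) →
        Commute (tg T t (RB.hAt e.2.1)) (wg T.F (bv (L.foldr (fun f r => Nat.xor f.2.1 r) 0))) := by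
      intro L
      induction L with
      | nil => intro _; rw [List.foldr_nil, LargeFischer.bv_zero, wg_zero]; exact Commute.one_right _
      | cons f L ih =>
        intro hL
        rw [List.foldr_cons, show Nat.xor f.2.1 (L.foldr (fun f r => Nat.xor f.2.1 r) 0) =
          f.2.1 ^^^ L.foldr (fun f r => Nat.xor f.2.1 r) 0 from rfl, LargeFischer.bv_xor, wg_add]
        exact (hL f List.mem_cons_self).mul_right (ih fun a ha => hL a (List.mem_cons_of_mem _ ha))
    refine this _ fun f hf' => ?_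
    obtain ⟨⟨⟨hfs, hfm⟩, -⟩, himg'⟩ := hents f hf'
    rw [← Nat.eq_of_beq_eq_true himg', Nat.eq_of_beq_eq_true ex, ← kg_wg T hfs hx]
    have hcg := tg_comm T ht hfs (hX_mem (i := e.2.1) (by omega)) hfm
    exact (hcg.mul_right hgx).mul_right hcg.inv_right
  rw [hx0, LargeFischer.bv_zero, wg_zero, one_mul] at hel
  rcases hlast with h1 | h1
  · rw [hel, hσg, Nat.eq_of_beq_eq_true h1, kg_one]
  -- the wrong values
  exfalso
  obtain ⟨⟨rp, ids, g₀, ks⟩, hmemc, hrp⟩ := List.any_eq_true.1 h1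
  obtain rfl := Nat.eq_of_beq_eq_true hrp
  have hok := List.all_eq_true.1 RB.caseC_ok _ hmemc
  simp only [RB.caseB, Bool.and_eq_true, allBelow_eq_true] at hok
  obtain ⟨⟨⟨hrpM, hids⟩, hg0⟩, hall⟩ := hok
  have hk0 := hall 0 (by norm_num)
  have hk1 := hall 1 (by norm_num)
  rcases hp0 : ks.getD 0 (0, 0, []) with ⟨ka, qa, wa⟩
  rcases hp1 : ks.getD 1 (0, 0, []) with ⟨kb, qb, wb⟩
  rw [hp0] at hk0 hg0
  rw [hp1] at hk1
  simp only [Bool.and_eq_true] at hk0 hk1
  have hr : inM24B RB.rC2.1 = true := by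
    have hb := RB.base_ok
    simp only [Bool.and_eq_true] at hb
    exact (stab3 T ht hb.1.1.1.1.1.1.1.1).1
  have erp : kg T rp = σg * r := (kg_prod T hs hr hrpM hmulr).symm
  have hS : s = kg T rp * c := by
    have e : s * c * r = σg := by rw [← hel, hp]
    rw [erp]
    calc s = s * c * r * r⁻¹ * c⁻¹ := by group
      _ = σg * r * c := by
          rw [e, inv_eq_of_mul_eq_one_right hrr, inv_eq_of_mul_eq_one_right hcc]
  have hra' : Commute a (kg T rp) := by rw [erp]; exact (hsc 0 (by norm_num)).mul_right hra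
  have hrb' : Commute b (kg T rp) := by rw [erp]; exact (hsc 1 (by norm_num)).mul_right hrb
  have main : ∀ me oth xa xb : ℕ, ids.getD 0 0 = me → ids.getD 1 0 = oth → ids.getD 2 0 = xa →
      ids.getD 3 0 = xb → me < 9 → oth < 9 → xa < 9 → xb < 9 →
      tg T t (RB.hAt xa) * tg T t (RB.hAt xb) = tg T t (RB.hAt me) →
      tg T t (RB.hAt oth) * tg T t (RB.hAt me) * tg T t (RB.hAt oth) = tg T t (RB.hAt me) * kg T rp * c →
      Commute (tg T t (RB.hAt me)) c → False := by
    intro me oth xa xb e0 e1 e2 e3 hme hoth hxa hxb hline hXY hXc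
    obtain ⟨⟨⟨⟨⟨⟨hca, hqa⟩, hrela⟩, ma⟩, oa⟩, ca⟩, qca⟩ := hk0
    obtain ⟨⟨⟨⟨⟨⟨hcb, hqb⟩, hrelb⟩, mb⟩, ob⟩, cb⟩, qcb⟩ := hk1
    rw [e0, show Nat.add 2 0 = 2 from rfl, e2] at ma
    rw [e0, show Nat.add 2 1 = 3 from rfl, e3] at mb
    rw [e1] at oa ob
    rw [e3] at hg0
    refine tg_not_nrm T hT ht (RB.hAt 2) (no_value hXY (tg_sq T ht _) hcc hline
      (tg_map T ht hca (hX_mem hme) (hX_mem hxa) ma) (tg_comm T ht hca (hX_mem hoth) oa).symm
      (tg_comm T ht hca (hX_mem (by norm_num)) ca).symm (kg_rel T hca hrpM hqa hca hrela)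
      (tg_map T ht hcb (hX_mem hme) (hX_mem hxb) mb) (tg_comm T ht hcb (hX_mem hoth) ob).symm
      (tg_comm T ht hcb (hX_mem (by norm_num)) cb).symm (kg_rel T hcb hrpM hqb hcb hrelb)
      hXc (tg_comm T ht hqb (hX_mem (by norm_num)) qcb) (tg_comm T ht hqa (hX_mem hxb) hg0)
      ⟨kg_mem_nrm T rp, kg_mem_nrm T qa, kg_mem_nrm T qb⟩)
  rw [Bool.or_eq_true] at hids
  simp only [Bool.and_eq_true, Nat.beq_eq] at hids
  rcases hids with ⟨⟨⟨e0, e1⟩, e2⟩, e3⟩ | ⟨⟨⟨e0, e1⟩, e2⟩, e3⟩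
  · refine main 0 1 5 6 e0 e1 e2 e3 (by norm_num) (by norm_num) (by norm_num) (by norm_num)
      (line_rel T hT ht (ids := [5, 6, 0]) (by simp)) ?_ hac
    show b * a * b = a * kg T rp * c
    rw [mul_assoc a, ← hS, hsdef]
    calc b * a * b = a * a * (b * a * b) := by rw [haa, one_mul]
      _ = _ := by group
  · refine main 1 0 7 8 e0 e1 e2 e3 (by norm_num) (by norm_num) (by norm_num) (by norm_num)
      (line_rel T hT ht (ids := [7, 8, 1]) (by simp)) ?_ hbc
    show a * b * a = b * kg T rp * c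
    calc a * b * a = s * b := by rw [hsdef, mul_assoc (a * b * a), hbb, mul_one]
      _ = kg T rp * c * b := by rw [hS]
      _ = kg T rp * (b * c) := by rw [hbc.eq]; group
      _ = b * kg T rp * c := by rw [← mul_assoc, hrb'.symm.eq]

/-- **The second long relator.** -/
theorem relB (hT : Pure T) (ht : IsCentre T t) : RelB T t := by
  have hp := relator_prod T hT ht
  obtain ⟨haa, hbb, hcc, hac, hbc, -, -, hra, hrb, hrc, hrr, eb'⟩ := cfg T hT ht
  have hb := RB.base_ok
  simp only [Bool.and_eq_true] at hb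
  obtain ⟨⟨⟨⟨⟨⟨⟨⟨hr3, hU⟩, hG⟩, htU⟩, hUU⟩, -⟩, h0⟩, h1G⟩, h31⟩ := hb
  have hone : inM24B rep24.one = true := by decide +kernel
  have e1 := kg_prod T (hX_mem (i := 1) (by norm_num)) hG hone h1G
  have e3 := kg_prod T hU (hX_mem (i := 3) (by norm_num)) (hX_mem (i := 1) (by norm_num)) h31
  have hn : Commute t (kg T (J4M24.evalCode RB.wU)) := tr_comm T ht htU
  rw [kg_one, kg_evalCode] at e1
  rw [kg_evalCode] at e3 hn
  have er : kg T RB.rC2.1 = wd T RB.wU * wd T RB.wU := by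
    rw [← Nat.eq_of_beq_eq_true hUU, kg_evalCode, wd, wd, J4DC.qW_append, map_mul]
  have hnil : J4DC.qW [] = 1 := map_one _
  have eU : wd T RB.wU = (yg T * xg T * yg T * xg T * yg T * xg T * yg T) ^ 3 := by
    simp only [RB.wU, wd, qW_cons, hnil, if_true, mul_one, map_mul, pow_succ, pow_zero, one_mul, xg, yg,
      mul_assoc]
  have eG : wd T RB.wG = (xg T * yg T) ^ 3 * yg T * (xg T * yg T) ^ 6 * yg T := by
    simp only [RB.wG, wd, qW_cons, hnil, if_true, mul_one, map_mul, pow_succ, pow_zero, one_mul, xg, yg,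
      mul_assoc]
  have ea : tg T t (RB.hAt 0) = t := by
    rw [tg, Nat.eq_of_beq_eq_true h0, kg_one]; group
  set n := wd T RB.wU
  set g := wd T RB.wG
  have eb : tg T t (RB.hAt 1) = g⁻¹ * t * g := by
    rw [tg, eq_inv_of_mul_eq_one_left e1]; group
  have eb3 : tg T t (RB.hAt 3) = n⁻¹ * tg T t (RB.hAt 1) * n := by
    have : kg T (RB.hAt 3) = n⁻¹ * kg T (RB.hAt 1) := eq_inv_mul_of_mul_eq e3
    rw [tg, tg, this]; group
  show ((yg T * xg T * yg T * xg T * yg T * xg T * yg T) ^ 3 * t *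
    (((xg T * yg T) ^ 3 * yg T * (xg T * yg T) ^ 6 * yg T)⁻¹ * t *
      ((xg T * yg T) ^ 3 * yg T * (xg T * yg T) ^ 6 * yg T))) ^ 2 = 1
  rw [← eU, ← eG, ← eb]
  set a := tg T t (RB.hAt 0)
  set b := tg T t (RB.hAt 1)
  set c := tg T t (RB.hAt 2)
  set r := kg T RB.rC2.1
  rw [← ea] at hn ⊢
  have hne : n⁻¹ * a * n = a := by rw [mul_assoc, hn.eq, inv_mul_cancel_left]
  calc (n * a * b) ^ 2 = n * n * (n⁻¹ * a * n) * (n⁻¹ * b * n) * (a * b) := by rw [pow_two]; group
    _ = r * a * (b * c) * (a * b) := by rw [← er, hne, ← eb3, eb']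
    _ = r * a * b * (c * (a * b)) := by group
    _ = r * a * b * (a * b * c) := by rw [(hac.symm.mul_right hbc.symm).eq]
    _ = r * (a * b * a * b * c * r) * r⁻¹ := by group
    _ = 1 := by rw [hp]; group

end Cfsg.Agent.J4Uniq
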