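import Cfsg.Agent.J4Uniq.Pure
import Cfsg.Agent.J4Uniq.RelA
import Cfsg.Agent.J4Uniq.RelB
import Cfsg.Agent.J4Uniq.Hom
import Cfsg.Agent.J4Type.V11.Setup

/-!
# A simple group of Janko-four type is the presented J4
-/

set_option autoImplicit false

open Cfsg

namespace Cfsg.Agent.J4Uniq

open J4Type.V11 TenLocal

/-- **Uniqueness of J4.** -/
theorem iso_of_type {G : Type*} [Group G] [Finite G] [IsSimpleGroup G] (hG : ¬ IsMulCommutative G)
    (hJ : IsOfJankoFourType G) : Cfsg.Spor.IsoJ4 G := by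
  have hJ0 := hJ
  obtain ⟨z, P, hP⟩ := hJ
  obtain ⟨B, S⟩ := exists_sys hG hP
  obtain ⟨T, hT⟩ := exists_pure S
  obtain ⟨t, ht⟩ := exists_centre T hT
  exact iso_of_rels hG hJ0 T t ht (relA T hT ht)
    (relB T hT ht)

end Cfsg.Agent.J4Uniq
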