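import Cfsg.Agent.J4Uniq.Base
import Cfsg.Agent.TenLocal.Classify
import Cfsg.Agent.TenLocal.Types
import Cfsg.Agent.J4Type.V11.Sel

/-!
# An involution commuting with seven elements of the standard group normalises it

The seven elements span a subgroup of order `2 ^ 7`, which contains an element outside the class of
`z`.  After moving that element into the group of order `2 ^ 11` the involution lies in the normaliser
of the latter, and one of the seven images lies outside it.
-/

set_option autoImplicit false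
set_option maxRecDepth 100000

open Cfsg Subgroup

namespace Cfsg.Agent.J4Uniq

open LargeExtra (oc)
open LargeFischer (W11 pt IsDuad bv)
open J4Type (mSub)
open J4Type.V11 TenLocal Oct
open Compute (allBelow allBelow_eq_true bitB bitB_eq)

/-- The seven indices. -/
def seven : List ℕ := [8, 64, 256, 512, 16, 33, 130]

/-- An element with commutator in the fixed space has all of them there. -/
noncomputable def comWB : Bool :=
  allBelow 2048 fun x => Oct.inW x || allBelow 16 fun k => Nat.beq k 0 || !(Oct.inU (Oct.comR k x))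

theorem comW_ok : comWB = true := by decide +kernel

theorem seven_ok : ((allBelow 128 fun j => Nat.blt (mapp seven j) 1024 &&
      (Nat.beq j 0 || !(Nat.beq (mapp seven j) 0))) &&
    Nat.beq (mapp seven 17) 24) = true := by
  decide +kernel

theorem mask24 : oMask0.testBit 24 = false ∧ oMask2.testBit 24 = false := by decide +kernel

variable {G : Type*} [Group G] [Finite G] {z : G} {P : Subgroup G} {V : Type*} [AddCommGroup V]
  {π : ↥(oc z) →* Multiplicative V} {ρ : ↥(mSub z P) →* Equiv.Perm V} {q : V → ZMod 2} {B : List V}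
  {S : Sys z P π ρ q B}

theorem span_lt {j : ℕ} (hj : j < 128) : mapp seven j < 1024 := by
  have h := seven_ok
  simp only [Bool.and_eq_true, allBelow_eq_true, Nat.blt_eq] at h
  exact (h.1 j hj).1

theorem span_inj {a b : ℕ} (ha : a < 128) (hb : b < 128) (e : mapp seven a = mapp seven b) : a = b := by
  have h := seven_ok
  simp only [Bool.and_eq_true, allBelow_eq_true, Bool.or_eq_true, Nat.beq_eq, Bool.not_eq_true',
    ← Bool.not_eq_true] at h
  have h1 := (h.1 (a ^^^ b) (Nat.xor_lt_two_pow (n := 7) ha hb)).2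
  rw [mapp_xor, e, Nat.xor_self] at h1
  exact Nat.xor_eq_zero_iff.1 (h1.resolve_right fun h => h rfl)

theorem seven_lt : ∀ n ∈ seven, n < 1024 := by decide

/-- An element of the normaliser commuting with an element outside `V` fixes the octad. -/
theorem so_of_comm {σ : ↥M24} {k : ℕ} (hk : k < 16) (hk0 : k ≠ 0) (h : σ * rEl k * σ⁻¹ = rEl k) :
    SO σ := by
  have key : ∀ τ : ↥M24, τ * rEl k = rEl k * τ → ∀ p ∈ octPts, (τ : Equiv.Perm GolayPt) p ∈ octPts := by
    intro τ hτ p hp
    refine rEl_fix hk hk0 ?_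
    have h1 := congrArg (fun x : ↥M24 => (x : Equiv.Perm GolayPt) p) hτ
    simp only [Subgroup.coe_mul, Equiv.Perm.mul_apply, rEl_fixes hp] at h1
    exact h1.symm
  have h1 : σ * rEl k = rEl k * σ := mul_inv_eq_iff_eq_mul.1 h
  have h2 : σ⁻¹ * rEl k = rEl k * σ⁻¹ := (Commute.inv_left (show Commute σ (rEl k) from h1)).eq
  intro p
  refine ⟨key σ h1 p, fun hp => ?_⟩
  have h3 := key σ⁻¹ h2 _ hp
  simpa using h3

/-- Some image of the seven lies outside `V`. -/
theorem exists_high (T : Sect S) {m : G} (hm : m ∈ normalizer (T.std : Set G)) :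
    ∃ n ∈ seven, ∃ i < 1024, mOf i ≠ 0 ∧ m * T.sEl n * m⁻¹ = T.sEl i := by
  classical
  by_contra hcon
  have hP : ∀ j < 2 ^ 7, ∃ i < 1024, mOf i = 0 ∧ m * T.sEl (mapp seven j) * m⁻¹ = T.sEl i := by
    intro j hj
    refine (J4Type.V11.bitInd 7 (P := fun j => mapp seven j < 1024 ∧
      ∃ i < 1024, mOf i = 0 ∧ m * T.sEl (mapp seven j) * m⁻¹ = T.sEl i) ?_ ?_ ?_ j hj).2
    · rw [mapp_zero]
      exact ⟨by norm_num, 0, by norm_num, mapp_zero _, by rw [T.sEl_zero]; group⟩
    · rintro a b - - ⟨ha, i, hi, hi0, ei⟩ ⟨hb, i', hi', hi0', ei'⟩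
      have hlt : mapp seven a ^^^ mapp seven b < 1024 := Nat.xor_lt_two_pow (n := 10) ha hb
      refine ⟨by rwa [mapp_xor], i ^^^ i', Nat.xor_lt_two_pow (n := 10) hi hi',
        by rw [mOf_xor, hi0, hi0', Nat.xor_self], ?_⟩
      rw [mapp_xor, ← T.sEl_mul ha hb, ← T.sEl_mul hi hi', ← ei, ← ei']
      group
    · intro b hb
      have hmem : seven.getD b 0 ∈ seven := by
        rw [List.getD_eq_getElem (hn := hb)]
        exact List.getElem_mem _
      rw [mapp_two_pow]
      refine ⟨seven_lt _ hmem, ?_⟩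
      obtain ⟨i, hi, e⟩ := (mem_normalizer_iff.1 hm _).1 (T.sEl_mem (seven_lt _ hmem))
      refine ⟨i, hi, ?_, e⟩
      by_contra h0
      exact hcon ⟨_, hmem, i, hi, h0, e⟩
  choose f hf hf0 hfe using hP
  obtain ⟨U, hU, hmemU⟩ := exists_uSet
  have hle := Finset.card_le_card_of_injOn (s := (Finset.univ : Finset (Fin (2 ^ 7)))) (t := U)
    (fun j => uOf (f j.1 j.2)) (fun j _ => hmemU _ (coord_facts (hf _ j.2)).1) (fun a _ b _ e => by
      have e1 : f a.1 a.2 = f b.1 b.2 := coord_inj (hf _ a.2) (hf _ b.2) e (by rw [hf0 _ a.2, hf0 _ b.2])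
      have e2 : m * T.sEl (mapp seven a.1) * m⁻¹ = m * T.sEl (mapp seven b.1) * m⁻¹ := by
        rw [hfe _ a.2, hfe _ b.2, e1]
      exact Fin.ext (span_inj a.2 b.2
        (T.sEl_inj (span_lt a.2) (span_lt b.2) (mul_left_cancel (mul_right_cancel e2)))))
  rw [Finset.card_univ, Fintype.card_fin] at hle
  omega

/-- An element commuting with an element of the standard group outside `V` normalises it. -/
theorem norm_of_comm_high (T : Sect S) {t : G} (ht : t ∈ T.F.nrm) {i : ℕ} (hi : i < 1024)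
    (hi0 : mOf i ≠ 0) (hc : t * T.sEl i * t⁻¹ = T.sEl i) : t ∈ normalizer (T.std : Set G) := by
  obtain ⟨v, hv⟩ := T.exists_el ht
  generalize T.F.theta T.good ⟨t, ht⟩ = σ at hv
  subst hv
  obtain ⟨-, -, hk, -⟩ := coord_facts hi
  rw [Sect.sEl, T.el_conj] at hc
  obtain ⟨e1, e2⟩ := T.el_inj hc
  have hσ := so_of_comm hk hi0 e2
  refine T.norm_el.2 ⟨hσ, ?_⟩
  obtain ⟨x, hx, rfl⟩ := bv_surj v
  obtain ⟨u, hu, eu⟩ := T.act_fixed hσ (coord_facts hi).1
  rw [e2, eu, T.act_rEl hk hx, ← LargeFischer.bv_xor, ← LargeFischer.bv_xor] at e1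
  refine ⟨x, hx, ?_, rfl⟩
  have hu' : u < 2048 := (inU_lt hu).trans (by norm_num)
  have hm : mapp (matOf (rC (mOf i))) x < 2048 := m_lt hk x
  have e3 := LargeFischer.bv_inj (LargeFischer.xor_lt11 (LargeFischer.xor_lt11 hx hu') hm)
    (coord_facts hi).2.1 e1
  have hcom : Oct.comR (mOf i) x = u ^^^ uOf i := by
    show x ^^^ mapp (matOf (rC (mOf i))) x = _
    rw [← e3, show u ^^^ (x ^^^ u ^^^ mapp (matOf (rC (mOf i))) x) =
      (u ^^^ u) ^^^ (x ^^^ mapp (matOf (rC (mOf i))) x) by ac_rfl, Nat.xor_self, Nat.zero_xor]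
  have h := allBelow_eq_true.1 comW_ok x hx
  rw [Bool.or_eq_true] at h
  refine h.resolve_right fun h' => ?_
  have h2 := allBelow_eq_true.1 h' (mOf i) hk
  rw [hcom, inU_xor hu (coord_facts hi).1, Bool.not_true, Bool.or_false, Nat.beq_eq] at h2
  exact hi0 h2

/-- **An involution commuting with the seven elements normalises the standard group.** -/
theorem norm_std (T : Sect S) {t : G}
    (hc : ∀ n ∈ ([8, 64, 256, 512, 16, 33, 130] : List ℕ), Commute t (T.sEl n)) :
    t ∈ normalizer (T.std : Set G) := by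
  have hcl : T.ClassLe := fun A h1 h2 h3 h4 => TenLocal.conj_std_of_le T h1 h2 h3 h4
  have hspan : ∀ j < 2 ^ 7, Commute t (T.sEl (mapp seven j)) := by
    intro j hj
    refine (J4Type.V11.bitInd 7 (P := fun j => mapp seven j < 1024 ∧ Commute t (T.sEl (mapp seven j)))
      ?_ ?_ ?_ j hj).2
    · rw [mapp_zero, T.sEl_zero]
      exact ⟨by norm_num, Commute.one_right t⟩
    · rintro a b - - ⟨ha, hca⟩ ⟨hb, hcb⟩
      rw [mapp_xor, ← T.sEl_mul ha hb]
      exact ⟨Nat.xor_lt_two_pow (n := 10) ha hb, hca.mul_right hcb⟩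
    · intro b hb
      have hmem : seven.getD b 0 ∈ seven := by
        rw [List.getD_eq_getElem (hn := hb)]
        exact List.getElem_mem _
      rw [mapp_two_pow]
      exact ⟨seven_lt _ hmem, hc _ hmem⟩
  have hb := seven_ok
  simp only [Bool.and_eq_true, Nat.beq_eq] at hb
  have h24 := hspan 17 (by norm_num)
  rw [hb.2] at h24
  have hz : ¬ IsConj z (T.sEl 24) := fun h => by
    rcases ((T.classes_std hcl).1 24 (by norm_num) (by norm_num)).1 h with h' | h'
    · rw [mask24.1] at h'; exact Bool.noConfusion h'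
    · rw [mask24.2] at h'; exact Bool.noConfusion h'
  obtain ⟨m, hm, em⟩ := T.fusion_t hcl (T.sEl_mem (by norm_num)) (fun e =>
    absurd (T.sEl_inj (by norm_num) (by norm_num) (e.trans T.sEl_zero.symm)) (by norm_num : (24 : ℕ) ≠ 0)) hz
  have ht : m * t * m⁻¹ ∈ T.F.nrm := by
    refine T.t_twenty.2.2 (mem_centralizer_singleton_iff.2 ?_)
    rw [← em]
    calc m * t * m⁻¹ * (m * T.sEl 24 * m⁻¹) = m * (t * T.sEl 24) * m⁻¹ := by group
      _ = m * (T.sEl 24 * t) * m⁻¹ := by rw [h24.eq]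
      _ = m * T.sEl 24 * m⁻¹ * (m * t * m⁻¹) := by group
  obtain ⟨n, hn, i, hi, hi0, ei⟩ := exists_high T hm
  have h1 : m * t * m⁻¹ ∈ normalizer (T.std : Set G) := norm_of_comm_high T ht hi hi0 (by
    rw [← ei]
    calc m * t * m⁻¹ * (m * T.sEl n * m⁻¹) * (m * t * m⁻¹)⁻¹ = m * (t * T.sEl n * t⁻¹) * m⁻¹ := by group
      _ = m * T.sEl n * m⁻¹ := by rw [(hc n hn).eq, mul_inv_cancel_right])
  have h2 := mul_mem (mul_mem (inv_mem hm) h1) hm
  rwa [show m⁻¹ * (m * t * m⁻¹) * m = t by group] at h2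

end Cfsg.Agent.J4Uniq
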