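import Cfsg.Agent.J4Uniq.Base
import Cfsg.Agent.J4Type.Order.CountTClass

/-!
# A pure section exists

In the section whose commutators are exactly the lifts in the class of `z` the fixed-point-free
involutions are conjugate to `z`; in the other section they are not, as the value of the cocycle at
such an involution is no commutator.
-/

set_option autoImplicit false
set_option maxRecDepth 100000

open Cfsg Subgroup

namespace Cfsg.Agent.J4Uniq

open LargeExtra (oc)
open LargeFischer (W11 pt bv)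
open J4Type (mSub)
open J4Type.V11 TenLocal
open J4Type.Order (IsCom CritAt twist twist_el isCom_conj isCom_code comBits imgPairs)
open Compute (rep24 allBelow allBelow_eq_true bitB)

theorem pure_ok : (Compute.inM24B (Compute.syl2Reps.getD 1 rep24.one) &&
    !(bitB (comBits (imgPairs (matOf (Compute.syl2Reps.getD 1 rep24.one))))
      (Nat.xor (vpL.getD 4 0) (vpL.getD (rep24.act (Compute.syl2Reps.getD 1 rep24.one) 4) 0))) &&
    Compute.inM24B (Compute.syl2Reps.getD 0 rep24.one) &&
    (List.range 24).any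
      (fun i => Nat.beq (rep24.act (Compute.syl2Reps.getD 0 rep24.one) i) i)) = true := by
  decide +kernel

variable {G : Type*} [Group G] [Finite G] {z : G} {P : Subgroup G} {V : Type*} [AddCommGroup V]
  {π : ↥(oc z) →* Multiplicative V} {ρ : ↥(mSub z P) →* Equiv.Perm V} {q : V → ZMod 2} {B : List V}
  {S : Sys z P π ρ q B}

/-- The cocycle of an involution is fixed by it. -/
theorem act_coc (T : Sect S) {σ : ↥M24} (h : σ * σ = 1) : T.act σ (Sect.coc σ) = Sect.coc σ := by
  have e := T.coc_mul σ σ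
  rw [h, show Sect.coc (1 : ↥M24) = 0 from LargeFischer.self11 _] at e
  exact (LargeFischer.eq_of_add11 e).symm

/-- Whether the cocycle is a commutator depends on the class only. -/
theorem isCom_coc_conj (T : Sect S) (g σ : ↥M24) (h : IsCom T σ (Sect.coc σ)) :
    IsCom T (g * σ * g⁻¹) (Sect.coc (g * σ * g⁻¹)) := by
  obtain ⟨x, hx⟩ := isCom_conj T g σ _ h
  have hg : Sect.coc g⁻¹ = T.act g⁻¹ (Sect.coc g) := by
    have e := T.coc_mul g⁻¹ g
    rw [inv_mul_cancel, show Sect.coc (1 : ↥M24) = 0 from LargeFischer.self11 _] at e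
    exact LargeFischer.eq_of_add11 e
  have hc : Sect.coc (g * σ * g⁻¹) =
      Sect.coc g + T.act g (Sect.coc σ) + T.act (g * σ * g⁻¹) (Sect.coc g) := by
    rw [← T.coc_mul (g * σ) g⁻¹, ← T.coc_mul g σ, hg, ← T.act_mul]
  refine ⟨x + Sect.coc g, ?_⟩
  rw [hc, hx, map_add]
  abel

/-- **A pure section of a given frame.** -/
theorem exists_pure_of (F : Frame S) (hF : F.Good) : ∃ T : Sect S, T.F = F ∧ Pure T := by
  obtain ⟨T, hTF, hcrit⟩ := J4Type.Order.exists_crit F hF
  refine ⟨twist T, hTF, fun σ h2 hfpf hz => ?_⟩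
  have h1 : σ ≠ 1 := fun h => hfpf none (by rw [h]; rfl)
  have e : ((twist T).kap σ : G) = T.el (Sect.coc σ) σ := rfl
  rw [e, hcrit σ h2 h1 _ (act_coc T h2)] at hz
  have hord : orderOf (σ : Equiv.Perm GolayPt) = 2 :=
    orderOf_eq_prime (by rw [sq, ← Subgroup.coe_mul, h2]; rfl) fun h => h1 (Subtype.ext h)
  obtain ⟨j, hj, k, hk, ek⟩ := Compute.exists_conj_involution σ.2 hord
  have hc := pure_ok
  simp only [Bool.and_eq_true, Bool.not_eq_true', List.any_eq_true, List.mem_range, Nat.beq_eq] at hc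
  obtain ⟨⟨⟨hM1, hno⟩, hM0⟩, i, hi, hfix⟩ := hc
  obtain ⟨hok1, -⟩ := Compute.mem_M24_of_check hM1
  obtain ⟨hok0, -⟩ := Compute.mem_M24_of_check hM0
  rcases (show j = 0 ∨ j = 1 by omega) with rfl | rfl
  · obtain ⟨p, hp⟩ := (J4Type.Order.fix_conj ek).2 ⟨rep24.pt i, by rw [den_pt hok0 hi, hfix]⟩
    exact hfpf p hp
  · set τ : ↥M24 := ⟨k, hk⟩ * σ * (⟨k, hk⟩ : ↥M24)⁻¹ with hτdef
    have hτ : (τ : Equiv.Perm GolayPt) = rep24.den (Compute.syl2Reps.getD 1 rep24.one) := ek
    have hτc : Sect.coc τ = bv (Nat.xor (vpL.getD 4 0)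
        (vpL.getD (rep24.act (Compute.syl2Reps.getD 1 rep24.one) 4) 0)) := by
      rw [Sect.coc, Sect.basePt, hτ, den_pt hok1 (by norm_num), ← pts_ok (by norm_num),
        ← pts_ok (rep24.act_lt _ _ hok1 (show 4 < 24 by norm_num)), ← LargeFischer.bv_xor]
      rfl
    have hcom := isCom_coc_conj T ⟨k, hk⟩ σ hz
    rw [← hτdef, hτc] at hcom
    have hlt : Nat.xor (vpL.getD 4 0)
        (vpL.getD (rep24.act (Compute.syl2Reps.getD 1 rep24.one) 4) 0) < 2048 := by decide +kernel
    rw [isCom_code T hok1 hτ hlt, hno] at hcom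
    exact Bool.noConfusion hcom

/-- **A pure section exists.** -/
theorem exists_pure (S : Sys z P π ρ q B) : ∃ T : Sect S, Pure T := by
  obtain ⟨F, hF⟩ := Frame.exists_good S
  obtain ⟨T, -, hT⟩ := exists_pure_of F hF
  exact ⟨T, hT⟩

end Cfsg.Agent.J4Uniq
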